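import Cfsg.Agent.H56.Exc.ToriAll
import Cfsg.Agent.H129.CycCardF
import Cfsg.Agent.S1068

/-!
# The big tori of `²F₄(q)` (helper56)

The classes `+`, `-` (the two factors of `q⁴ - q² + 1`, `q = 2x²`) and `6`.
-/

set_option autoImplicit false
set_option linter.unusedSectionVars false
set_option linter.unusedSimpArgs false

namespace Cfsg.Agent.H56.Exc

open Cfsg.Agent Cfsg.Lie

universe u

/-- the orders of the two isolated tori and of the third one, `q = 2x²` -/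
def mP (x : ℕ) : ℕ := 1 + 2 * x + 2 * x ^ 2 + 4 * x ^ 3 + 4 * x ^ 4
def mM (x : ℕ) : ℕ := (1 - 2 * (x : ℤ) + 2 * (x : ℤ) ^ 2 - 4 * (x : ℤ) ^ 3 + 4 * (x : ℤ) ^ 4).toNat
def m6 (x : ℕ) : ℕ := (1 - 2 * (x : ℤ) ^ 2 + 4 * (x : ℤ) ^ 4).toNat

theorem cast_mP (x : ℕ) : (mP x : ℤ) = 1 + 2 * (x : ℤ) + 2 * (x : ℤ) ^ 2 + 4 * (x : ℤ) ^ 3 + 4 * (x : ℤ) ^ 4 := by
  unfold mP; push_cast; ring

theorem cast_mM {x : ℕ} (hx : 2 ≤ x) :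
    (mM x : ℤ) = 1 - 2 * (x : ℤ) + 2 * (x : ℤ) ^ 2 - 4 * (x : ℤ) ^ 3 + 4 * (x : ℤ) ^ 4 := by
  apply Int.toNat_of_nonneg
  obtain ⟨t, rfl⟩ := Nat.exists_eq_add_of_le hx
  push_cast
  have e : 1 - 2 * (2 + (t : ℤ)) + 2 * (2 + (t : ℤ)) ^ 2 - 4 * (2 + (t : ℤ)) ^ 3 + 4 * (2 + (t : ℤ)) ^ 4 =
    37 + 86 * t + 74 * t ^ 2 + 28 * t ^ 3 + 4 * t ^ 4 := by ring
  rw [e]; positivity

theorem cast_m6 {x : ℕ} (hx : 2 ≤ x) : (m6 x : ℤ) = 1 - 2 * (x : ℤ) ^ 2 + 4 * (x : ℤ) ^ 4 := by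
  apply Int.toNat_of_nonneg
  obtain ⟨t, rfl⟩ := Nat.exists_eq_add_of_le hx
  push_cast
  have e : 1 - 2 * (2 + (t : ℤ)) ^ 2 + 4 * (2 + (t : ℤ)) ^ 4 =
    57 + 120 * t + 94 * t ^ 2 + 32 * t ^ 3 + 4 * t ^ 4 := by ring
  rw [e]; positivity

/-- the classes -/
def clTF (x : ℕ) : Fin 3 → ℕ → Prop := ![fun r => r.Prime ∧ r ∣ mP x, fun r => r.Prime ∧ r ∣ mM x,
  fun r => H436.Prim (2 * x ^ 2) 6 r]
def msTF (x : ℕ) : Fin 3 → ℕ := ![mP x, mM x, m6 x]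
def esTF : Fin 3 → ℕ := ![12, 12, 6]

theorem mP_mul_mM {x : ℕ} (hx : 2 ≤ x) :
    (mP x : ℤ) * mM x = 1 - (2 * (x : ℤ) ^ 2) ^ 2 + (2 * (x : ℤ) ^ 2) ^ 4 := by
  rw [cast_mP, cast_mM hx]; ring

theorem three_aux : ∀ y : ZMod 3, 1 - y ^ 2 + y ^ 4 = 0 → y ≠ 0 → False := by decide

/-- the primes of `Φ₁₂(q)` -/
theorem prim_of_dvd12 {q r : ℕ} (hr : r.Prime) (h2 : q % 2 = 0) (h3 : ¬ 3 ∣ q)
    (h : (r : ℤ) ∣ 1 - (q : ℤ) ^ 2 + (q : ℤ) ^ 4) : H436.Prim q 12 r := by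
  have hf : Fact r.Prime := ⟨hr⟩
  have hz : (1 : ZMod r) - (q : ZMod r) ^ 2 + (q : ZMod r) ^ 4 = 0 := by
    rw [← ZMod.intCast_zmod_eq_zero_iff_dvd] at h
    push_cast at h
    exact h
  have hr2 : r ≠ 2 := by
    rintro rfl
    have h4 : (q : ZMod 2) = 0 := by
      rw [ZMod.natCast_eq_zero_iff]; exact Nat.dvd_of_mod_eq_zero h2
    rw [h4] at hz
    norm_num at hz
  have hr3 : r ≠ 3 := by
    rintro rfl
    have h4 : (q : ZMod 3) ≠ 0 := by rwa [Ne, ZMod.natCast_eq_zero_iff]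
    exact three_aux _ hz h4
  have h2z : (2 : ZMod r) ≠ 0 := by
    intro h5
    have h6 : r ∣ 2 := by rw [← ZMod.natCast_eq_zero_iff]; exact_mod_cast h5
    exact hr2 ((Nat.prime_dvd_prime_iff_eq hr Nat.prime_two).1 h6)
  have h3z : (3 : ZMod r) ≠ 0 := by
    intro h5
    have h6 : r ∣ 3 := by rw [← ZMod.natCast_eq_zero_iff]; exact_mod_cast h5
    exact hr3 ((Nat.prime_dvd_prime_iff_eq hr Nat.prime_three).1 h6)
  have h12 : (q : ZMod r) ^ 12 = 1 := by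
    linear_combination ((q : ZMod r) ^ 8 + (q : ZMod r) ^ 6 - (q : ZMod r) ^ 2 - 1) * hz
  have h6 : (q : ZMod r) ^ 6 ≠ 1 := by
    intro h6
    apply h2z
    linear_combination (-1 : ZMod r) * h6 + ((q : ZMod r) ^ 2 + 1) * hz
  have h4 : (q : ZMod r) ^ 4 ≠ 1 := by
    intro h4
    apply h3z
    have h5 : (q : ZMod r) ^ 2 = 2 := by linear_combination h4 - hz
    have h7 : (q : ZMod r) ^ 4 = 4 := by
      rw [show (4 : ℕ) = 2 * 2 from rfl, pow_mul, h5]; norm_num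
    linear_combination h4 - h7
  have ho : orderOf (q : ZMod r) = 12 := by
    refine orderOf_eq_of_pow_and_pow_div_prime (by norm_num) h12 fun p hp hpd => ?_
    have hp12 : p ≤ 12 := Nat.le_of_dvd (by norm_num) hpd
    have h0 := hp.two_le
    interval_cases p
    · exact h6
    · exact h4
    all_goals first | (exfalso; revert hpd; norm_num; done) | (exfalso; revert hp; norm_num)
  have hq0 : (q : ZMod r) ≠ 0 := by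
    intro h5
    rw [h5] at h12
    norm_num at h12
  have hqpos : 0 < q := by
    rcases Nat.eq_zero_or_pos q with h5 | h5
    · rw [h5] at hq0; simp at hq0
    · exact h5
  refine ⟨hr, fun m => ?_, fun hrq => hq0 ((ZMod.natCast_eq_zero_iff q r).2 hrq)⟩
  rw [← ZMod.natCast_eq_zero_iff, Nat.cast_sub (Nat.one_le_pow _ _ hqpos), Nat.cast_pow, Nat.cast_one, sub_eq_zero, ← ho,
    orderOf_dvd_iff_pow_eq_one]

section Ring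

variable {R : Type*} [CommRing R] (x : R)

theorem kap_TF_plus (h : 1 + 2 * x + 2 * x ^ 2 + 4 * x ^ 3 + 4 * x ^ 4 = 0) :
    (2 * x ^ 2) ^ 12 * (2 * x ^ 2 - 1) * ((2 * x ^ 2) ^ 3 + 1) * ((2 * x ^ 2) ^ 4 - 1) * ((2 * x ^ 2) ^ 2 + 1) *
      (1 - 2 * x + 2 * x ^ 2 - 4 * x ^ 3 + 4 * x ^ 4) = 12 := by
  have h4 : (2 * x ^ 2) ^ 4 = (2 * x ^ 2) ^ 2 - 1 := by
    linear_combination (1 - 2 * x + 2 * x ^ 2 - 4 * x ^ 3 + 4 * x ^ 4) * h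
  have hm : 1 - 2 * x + 2 * x ^ 2 - 4 * x ^ 3 + 4 * x ^ 4 = 2 * ((2 * x ^ 2) ^ 2 + (2 * x ^ 2) + 1) := by
    linear_combination -h
  rw [hm]
  generalize 2 * x ^ 2 = y at h4
  have h6 : y ^ 6 = -1 := by linear_combination (y ^ 2 + 1) * h4
  have h12 : y ^ 12 = 1 := by
    rw [show 12 = 6 * 2 from rfl, pow_mul, h6]; norm_num
  rw [h12, h4]
  linear_combination (2 * (y ^ 4 - y ^ 2 - 2)) * h6 - 4 * h4

theorem kap_TF_minus (h : 1 - 2 * x + 2 * x ^ 2 - 4 * x ^ 3 + 4 * x ^ 4 = 0) :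
    (2 * x ^ 2) ^ 12 * (2 * x ^ 2 - 1) * ((2 * x ^ 2) ^ 3 + 1) * ((2 * x ^ 2) ^ 4 - 1) * ((2 * x ^ 2) ^ 2 + 1) *
      (1 + 2 * x + 2 * x ^ 2 + 4 * x ^ 3 + 4 * x ^ 4) = 12 := by
  have h1 := kap_TF_plus (-x) (by linear_combination h)
  have e1 : (2 * (-x) ^ 2) = 2 * x ^ 2 := by ring
  rw [e1] at h1
  rw [← h1]
  ring

theorem kap_TF_6 (h : 1 - 2 * x ^ 2 + 4 * x ^ 4 = 0) :
    (2 * x ^ 2) ^ 12 * (2 * x ^ 2 - 1) * (2 * x ^ 2 + 1) * ((2 * x ^ 2) ^ 4 - 1) * ((2 * x ^ 2) ^ 6 + 1) = 6 := by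
  have h2 : (2 * x ^ 2) ^ 2 = 2 * x ^ 2 - 1 := by linear_combination h
  generalize 2 * x ^ 2 = y at h2
  have h3 : y ^ 3 = -1 := by linear_combination (y + 1) * h2
  have h12 : y ^ 12 = 1 := by
    rw [show 12 = 3 * 4 from rfl, pow_mul, h3]; norm_num
  have h6 : y ^ 6 = 1 := by
    rw [show 6 = 3 * 2 from rfl, pow_mul, h3]; norm_num
  have h4 : y ^ 4 = -y := by
    rw [show 4 = 3 + 1 from rfl, pow_add, h3]; ring
  rw [h12, h6, h4]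
  linear_combination (-2 * y - 4) * h2

end Ring

variable {F : Type u} [Field F] [Fintype F] {m : ℕ}

theorem ord_TF4 (hF : Fintype.card F = 2 ^ (2 * m + 1)) :
    (Nat.card ↥(twistedF4 F (2 ^ m)) : ℤ) = (2 * ((2 ^ m : ℕ) : ℤ) ^ 2) ^ 12 * (2 * ((2 ^ m : ℕ) : ℤ) ^ 2 - 1) *
      ((2 * ((2 ^ m : ℕ) : ℤ) ^ 2) ^ 3 + 1) * ((2 * ((2 ^ m : ℕ) : ℤ) ^ 2) ^ 4 - 1) *
      ((2 * ((2 ^ m : ℕ) : ℤ) ^ 2) ^ 6 + 1) := by
  have h := congrArg (Nat.cast : ℕ → ℤ) (Cfsg.Agent.S1068.result hF)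
  have hq : 2 ^ (2 * m + 1) = 2 * (2 ^ m) ^ 2 := by ring
  rw [hq] at h
  have h1 : 1 ≤ 2 * (2 ^ m) ^ 2 := by
    have : 0 < (2 ^ m) ^ 2 := by positivity
    omega
  have hs : ∀ k : ℕ, (((2 * (2 ^ m) ^ 2) ^ k - 1 : ℕ) : ℤ) = (2 * ((2 ^ m : ℕ) : ℤ) ^ 2) ^ k - 1 := fun k => by
    rw [Nat.cast_sub (Nat.one_le_pow _ _ h1)]; push_cast; ring
  have hs1 : ((2 * (2 ^ m) ^ 2 - 1 : ℕ) : ℤ) = 2 * ((2 ^ m : ℕ) : ℤ) ^ 2 - 1 := by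
    rw [Nat.cast_sub h1]; push_cast; ring
  rw [Nat.cast_mul, Nat.cast_mul, Nat.cast_mul, Nat.cast_mul, hs, hs1] at h
  rw [h]
  push_cast
  ring

theorem big_TF4_plus (hF : Fintype.card F = 2 ^ (2 * m + 1)) (hm : 1 ≤ m) {r : ℕ} (hr : r.Prime) (h : r ∣ mP (2 ^ m)) :
    Big ↥(twistedF4 F (2 ^ m)) r (mP (2 ^ m)) 12 := by
  have hx : 2 ≤ 2 ^ m := Nat.le_self_pow (by omega) 2
  have hi : (r : ℤ) ∣ 1 + 2 * ((2 ^ m : ℕ) : ℤ) + 2 * ((2 ^ m : ℕ) : ℤ) ^ 2 + 4 * ((2 ^ m : ℕ) : ℤ) ^ 3 +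
      4 * ((2 ^ m : ℕ) : ℤ) ^ 4 := by
    rw [← cast_mP]; exact Int.natCast_dvd_natCast.2 h
  have hq2 : (2 * (2 ^ m) ^ 2) % 2 = 0 := by omega
  have hq3 : ¬ 3 ∣ 2 * (2 ^ m) ^ 2 := by
    intro h3
    have : 2 * (2 ^ m) ^ 2 = 2 ^ (2 * m + 1) := by ring
    rw [this] at h3
    have := (Nat.prime_dvd_prime_iff_eq Nat.prime_three Nat.prime_two).1 (Nat.prime_three.dvd_of_dvd_pow h3)
    omega
  have hp : H436.Prim (2 * (2 ^ m) ^ 2) 12 r := by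
    apply prim_of_dvd12 hr hq2 hq3
    have h1 : (r : ℤ) ∣ (mP (2 ^ m) : ℤ) * mM (2 ^ m) := (Int.natCast_dvd_natCast.2 h).mul_right _
    rw [mP_mul_mM hx] at h1
    push_cast at h1 ⊢
    exact h1
  have hlt := prim_lt hp (by norm_num)
  refine Big.row (D := 1) (K := (2 * ((2 ^ m : ℕ) : ℤ) ^ 2) ^ 12 * (2 * ((2 ^ m : ℕ) : ℤ) ^ 2 - 1) *
      ((2 * ((2 ^ m : ℕ) : ℤ) ^ 2) ^ 3 + 1) * ((2 * ((2 ^ m : ℕ) : ℤ) ^ 2) ^ 4 - 1) *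
      ((2 * ((2 ^ m : ℕ) : ℤ) ^ 2) ^ 2 + 1) * (1 - 2 * ((2 ^ m : ℕ) : ℤ) + 2 * ((2 ^ m : ℕ) : ℤ) ^ 2 -
        4 * ((2 ^ m : ℕ) : ℤ) ^ 3 + 4 * ((2 ^ m : ℕ) : ℤ) ^ 4)) hr ?_ (Or.inr rfl) (one_dvd _) (by norm_num) (by omega)
    ?_ ?_
  · refine Cfsg.Agent.H129.CycCard.card_tF4_plus hF ?_ hr ?_
    · rw [cast_mP]; push_cast; ring
    · push_cast at hi; exact hi
  · rw [Nat.cast_one, one_mul, ord_TF4 hF, cast_mP]; ring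
  · have hz : (1 + 2 * ((2 ^ m : ℕ) : ZMod r) + 2 * ((2 ^ m : ℕ) : ZMod r) ^ 2 + 4 * ((2 ^ m : ℕ) : ZMod r) ^ 3 +
        4 * ((2 ^ m : ℕ) : ZMod r) ^ 4) = 0 := by
      rw [← ZMod.intCast_zmod_eq_zero_iff_dvd] at hi
      push_cast at hi ⊢
      exact hi
    have := kap_TF_plus _ hz
    push_cast at this ⊢
    exact this

theorem big_TF4_minus (hF : Fintype.card F = 2 ^ (2 * m + 1)) (hm : 1 ≤ m) {r : ℕ} (hr : r.Prime) (h : r ∣ mM (2 ^ m)) :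
    Big ↥(twistedF4 F (2 ^ m)) r (mM (2 ^ m)) 12 := by
  have hx : 2 ≤ 2 ^ m := Nat.le_self_pow (by omega) 2
  have hi : (r : ℤ) ∣ 1 - 2 * ((2 ^ m : ℕ) : ℤ) + 2 * ((2 ^ m : ℕ) : ℤ) ^ 2 - 4 * ((2 ^ m : ℕ) : ℤ) ^ 3 +
      4 * ((2 ^ m : ℕ) : ℤ) ^ 4 := by
    rw [← cast_mM hx]; exact Int.natCast_dvd_natCast.2 h
  have hq2 : (2 * (2 ^ m) ^ 2) % 2 = 0 := by omega
  have hq3 : ¬ 3 ∣ 2 * (2 ^ m) ^ 2 := by
    intro h3
    have : 2 * (2 ^ m) ^ 2 = 2 ^ (2 * m + 1) := by ring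
    rw [this] at h3
    have := (Nat.prime_dvd_prime_iff_eq Nat.prime_three Nat.prime_two).1 (Nat.prime_three.dvd_of_dvd_pow h3)
    omega
  have hp : H436.Prim (2 * (2 ^ m) ^ 2) 12 r := by
    apply prim_of_dvd12 hr hq2 hq3
    have h1 : (r : ℤ) ∣ (mP (2 ^ m) : ℤ) * mM (2 ^ m) := (Int.natCast_dvd_natCast.2 h).mul_left _
    rw [mP_mul_mM hx] at h1
    push_cast at h1 ⊢
    exact h1
  have hlt := prim_lt hp (by norm_num)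
  refine Big.row (D := 1) (K := (2 * ((2 ^ m : ℕ) : ℤ) ^ 2) ^ 12 * (2 * ((2 ^ m : ℕ) : ℤ) ^ 2 - 1) *
      ((2 * ((2 ^ m : ℕ) : ℤ) ^ 2) ^ 3 + 1) * ((2 * ((2 ^ m : ℕ) : ℤ) ^ 2) ^ 4 - 1) *
      ((2 * ((2 ^ m : ℕ) : ℤ) ^ 2) ^ 2 + 1) * (1 + 2 * ((2 ^ m : ℕ) : ℤ) + 2 * ((2 ^ m : ℕ) : ℤ) ^ 2 +
        4 * ((2 ^ m : ℕ) : ℤ) ^ 3 + 4 * ((2 ^ m : ℕ) : ℤ) ^ 4)) hr ?_ (Or.inr rfl) (one_dvd _) (by norm_num) (by omega)
    ?_ ?_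
  · refine Cfsg.Agent.H129.CycCard.card_tF4_minus hF ?_ hr ?_
    · rw [cast_mM hx]; push_cast; ring
    · push_cast at hi; exact hi
  · rw [Nat.cast_one, one_mul, ord_TF4 hF, cast_mM hx]; ring
  · have hz : (1 - 2 * ((2 ^ m : ℕ) : ZMod r) + 2 * ((2 ^ m : ℕ) : ZMod r) ^ 2 - 4 * ((2 ^ m : ℕ) : ZMod r) ^ 3 +
        4 * ((2 ^ m : ℕ) : ZMod r) ^ 4) = 0 := by
      rw [← ZMod.intCast_zmod_eq_zero_iff_dvd] at hi
      push_cast at hi ⊢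
      exact hi
    have := kap_TF_minus _ hz
    push_cast at this ⊢
    exact this

theorem big_TF4_6 (hF : Fintype.card F = 2 ^ (2 * m + 1)) (hm : 1 ≤ m) {r : ℕ}
    (hp : H436.Prim (2 * (2 ^ m) ^ 2) 6 r) : Big ↥(twistedF4 F (2 ^ m)) r (m6 (2 ^ m)) 6 := by
  have hx : 2 ≤ 2 ^ m := Nat.le_self_pow (by omega) 2
  have hr := hp.prime
  have hlt := prim_lt hp (by norm_num)
  have hi : (r : ℤ) ∣ 1 - 2 * ((2 ^ m : ℕ) : ℤ) ^ 2 + 4 * ((2 ^ m : ℕ) : ℤ) ^ 4 := by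
    have h1 := prim_dvd_6 hp
    have e : (1 - 2 * ((2 ^ m : ℕ) : ℤ) ^ 2 + 4 * ((2 ^ m : ℕ) : ℤ) ^ 4) =
      1 - ((2 * (2 ^ m) ^ 2 : ℕ) : ℤ) + ((2 * (2 ^ m) ^ 2 : ℕ) : ℤ) ^ 2 := by push_cast; ring
    rw [e]; exact h1
  refine Big.row (D := 1) (K := (2 * ((2 ^ m : ℕ) : ℤ) ^ 2) ^ 12 * (2 * ((2 ^ m : ℕ) : ℤ) ^ 2 - 1) *
      (2 * ((2 ^ m : ℕ) : ℤ) ^ 2 + 1) * ((2 * ((2 ^ m : ℕ) : ℤ) ^ 2) ^ 4 - 1) *
      ((2 * ((2 ^ m : ℕ) : ℤ) ^ 2) ^ 6 + 1)) hr ?_ (Or.inr rfl) (one_dvd _) (by norm_num) (by omega) ?_ ?_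
  · refine Cfsg.Agent.H129.CycCard.card_tF4_6 hF ?_ hr ?_ (by omega)
    · rw [cast_m6 hx]; push_cast; ring
    · push_cast at hi; exact hi
  · rw [Nat.cast_one, one_mul, ord_TF4 hF, cast_m6 hx]; ring
  · have hz : (1 - 2 * ((2 ^ m : ℕ) : ZMod r) ^ 2 + 4 * ((2 ^ m : ℕ) : ZMod r) ^ 4) = 0 := by
      rw [← ZMod.intCast_zmod_eq_zero_iff_dvd] at hi
      push_cast at hi ⊢
      exact hi
    have := kap_TF_6 _ hz
    push_cast at this ⊢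
    exact this

theorem q_TF (m : ℕ) : 2 * (2 ^ m) ^ 2 = 2 ^ (2 * m + 1) := by ring

theorem not_three_dvd_q (m : ℕ) : ¬ 3 ∣ 2 * (2 ^ m) ^ 2 := by
  intro h3
  rw [q_TF] at h3
  have := (Nat.prime_dvd_prime_iff_eq Nat.prime_three Nat.prime_two).1 (Nat.prime_three.dvd_of_dvd_pow h3)
  omega

theorem prim_of_mP {m r : ℕ} (hm : 1 ≤ m) (hr : r.Prime) (h : r ∣ mP (2 ^ m)) : H436.Prim (2 * (2 ^ m) ^ 2) 12 r := by
  have hx : 2 ≤ 2 ^ m := Nat.le_self_pow (by omega) 2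
  apply prim_of_dvd12 hr (by omega) (not_three_dvd_q m)
  have h1 : (r : ℤ) ∣ (mP (2 ^ m) : ℤ) * mM (2 ^ m) := (Int.natCast_dvd_natCast.2 h).mul_right _
  rw [mP_mul_mM hx] at h1
  push_cast at h1 ⊢
  exact h1

theorem prim_of_mM {m r : ℕ} (hm : 1 ≤ m) (hr : r.Prime) (h : r ∣ mM (2 ^ m)) : H436.Prim (2 * (2 ^ m) ^ 2) 12 r := by
  have hx : 2 ≤ 2 ^ m := Nat.le_self_pow (by omega) 2
  apply prim_of_dvd12 hr (by omega) (not_three_dvd_q m)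
  have h1 : (r : ℤ) ∣ (mP (2 ^ m) : ℤ) * mM (2 ^ m) := (Int.natCast_dvd_natCast.2 h).mul_left _
  rw [mP_mul_mM hx] at h1
  push_cast at h1 ⊢
  exact h1

/-- the two factors are coprime -/
theorem not_dvd_both {m r : ℕ} (hm : 1 ≤ m) (hr : r.Prime) (h1 : r ∣ mP (2 ^ m)) (h2 : r ∣ mM (2 ^ m)) : False := by
  have hx : 2 ≤ 2 ^ m := Nat.le_self_pow (by omega) 2
  have hp := prim_of_mP hm hr h1
  have hf : Fact r.Prime := ⟨hr⟩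
  have hlt := prim_lt hp (by norm_num)
  have i1 : (r : ℤ) ∣ (mP (2 ^ m) : ℤ) := Int.natCast_dvd_natCast.2 h1
  have i2 : (r : ℤ) ∣ (mM (2 ^ m) : ℤ) := Int.natCast_dvd_natCast.2 h2
  rw [cast_mP, ← ZMod.intCast_zmod_eq_zero_iff_dvd] at i1
  rw [cast_mM hx, ← ZMod.intCast_zmod_eq_zero_iff_dvd] at i2
  push_cast at i1 i2
  have hz := prim_phi_12 hp
  push_cast at hz
  generalize (2 : ZMod r) ^ m = x at i1 i2 hz
  have h4 : 4 * x * (1 + 2 * x ^ 2) = 0 := by linear_combination i1 - i2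
  rcases mul_eq_zero.1 h4 with h5 | h5
  · have h40 : (4 : ZMod r) ≠ 0 := by
      intro h6
      have h7 : r ∣ 4 := by rw [← ZMod.natCast_eq_zero_iff]; exact_mod_cast h6
      have := Nat.le_of_dvd (by norm_num) h7
      omega
    have h6 : x = 0 := (mul_eq_zero.1 h5).resolve_left h40
    rw [h6] at i1
    norm_num at i1
  · have h7 : (2 * x ^ 2 : ZMod r) = -1 := by linear_combination h5
    rw [h7] at hz
    norm_num at hz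

theorem dvd_card_TF {r : ℕ} {c : ℤ} {G : Type*} [Group G] (h : (Nat.card G : ℤ) = c) (hr : (r : ℤ) ∣ c) :
    r ∣ Nat.card G := by
  rw [← Int.natCast_dvd_natCast, h]; exact hr

theorem tori_TF4 (hF : Fintype.card F = 2 ^ (2 * m + 1)) (hm : 1 ≤ m) :
    Tori ↥(twistedF4 F (2 ^ m)) 2 (clTF (2 ^ m)) (msTF (2 ^ m)) esTF where
  big := by
    have hx : 2 ≤ 2 ^ m := Nat.le_self_pow (by omega) 2
    intro i r hr
    fin_cases i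
    · exact big_TF4_plus hF hm hr.1 hr.2
    · exact big_TF4_minus hF hm hr.1 hr.2
    · exact big_TF4_6 hF hm hr
  dvd := by
    have hx : 2 ≤ 2 ^ m := Nat.le_self_pow (by omega) 2
    intro i r hr
    apply dvd_card_TF (ord_TF4 hF)
    fin_cases i
    · have h1 : (r : ℤ) ∣ (mP (2 ^ m) : ℤ) := Int.natCast_dvd_natCast.2 hr.2
      refine h1.trans ?_
      rw [cast_mP]
      exact ⟨(2 * ((2 ^ m : ℕ) : ℤ) ^ 2) ^ 12 * (2 * ((2 ^ m : ℕ) : ℤ) ^ 2 - 1) *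
        ((2 * ((2 ^ m : ℕ) : ℤ) ^ 2) ^ 3 + 1) * ((2 * ((2 ^ m : ℕ) : ℤ) ^ 2) ^ 4 - 1) *
        ((2 * ((2 ^ m : ℕ) : ℤ) ^ 2) ^ 2 + 1) * (1 - 2 * ((2 ^ m : ℕ) : ℤ) + 2 * ((2 ^ m : ℕ) : ℤ) ^ 2 -
        4 * ((2 ^ m : ℕ) : ℤ) ^ 3 + 4 * ((2 ^ m : ℕ) : ℤ) ^ 4), by ring⟩
    · have h1 : (r : ℤ) ∣ (mM (2 ^ m) : ℤ) := Int.natCast_dvd_natCast.2 hr.2
      refine h1.trans ?_
      rw [cast_mM hx]
      exact ⟨(2 * ((2 ^ m : ℕ) : ℤ) ^ 2) ^ 12 * (2 * ((2 ^ m : ℕ) : ℤ) ^ 2 - 1) *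
        ((2 * ((2 ^ m : ℕ) : ℤ) ^ 2) ^ 3 + 1) * ((2 * ((2 ^ m : ℕ) : ℤ) ^ 2) ^ 4 - 1) *
        ((2 * ((2 ^ m : ℕ) : ℤ) ^ 2) ^ 2 + 1) * (1 + 2 * ((2 ^ m : ℕ) : ℤ) + 2 * ((2 ^ m : ℕ) : ℤ) ^ 2 +
        4 * ((2 ^ m : ℕ) : ℤ) ^ 3 + 4 * ((2 ^ m : ℕ) : ℤ) ^ 4), by ring⟩
    · have h1 := prim_dvd_6 hr
      refine h1.trans ?_
      push_cast
      exact ⟨(2 * (2 ^ m : ℤ) ^ 2) ^ 12 * (2 * (2 ^ m : ℤ) ^ 2 - 1) * (2 * (2 ^ m : ℤ) ^ 2 + 1) *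
        ((2 * (2 ^ m : ℤ) ^ 2) ^ 4 - 1) * ((2 * (2 ^ m : ℤ) ^ 2) ^ 6 + 1), by ring⟩
  ne := by
    have hx : 2 ≤ 2 ^ m := Nat.le_self_pow (by omega) 2
    intro i
    fin_cases i
    · exact Nat.exists_prime_and_dvd (n := mP (2 ^ m)) (by unfold mP; nlinarith)
    · apply Nat.exists_prime_and_dvd (n := mM (2 ^ m))
      intro h
      have h1 := cast_mM hx
      rw [h] at h1
      obtain ⟨t, ht⟩ := Nat.exists_eq_add_of_le hx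
      rw [ht] at h1
      push_cast at h1
      have e : 1 - 2 * (2 + (t : ℤ)) + 2 * (2 + (t : ℤ)) ^ 2 - 4 * (2 + (t : ℤ)) ^ 3 + 4 * (2 + (t : ℤ)) ^ 4 =
        37 + 86 * t + 74 * t ^ 2 + 28 * t ^ 3 + 4 * t ^ 4 := by ring
      rw [e] at h1
      have h2 : (0 : ℤ) ≤ 86 * t + 74 * t ^ 2 + 28 * t ^ 3 + 4 * t ^ 4 := by positivity
      omega
    · refine H436.exists_prim ?_ (by norm_num) ?_
      · nlinarith
      · rintro ⟨h, -⟩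
        nlinarith
  sep := by
    have hx : 2 ≤ 2 ^ m := Nat.le_self_pow (by omega) 2
    -- primes of the first two classes exceed 12
    have hlt : ∀ s, H436.Prim (2 * (2 ^ m) ^ 2) 12 s → ¬ s ∣ 12 ∧ ¬ s ∣ 6 := fun s hs => by
      have h1 := prim_lt hs (by norm_num)
      exact ⟨fun h => absurd (Nat.le_of_dvd (by norm_num) h) (by omega),
        fun h => absurd (Nat.le_of_dvd (by norm_num) h) (by omega)⟩
    have hlt6 : ∀ s, H436.Prim (2 * (2 ^ m) ^ 2) 6 s → ¬ s ∣ 12 := fun s hs h => by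
      have h1 := prim_lt hs (by norm_num)
      have h2 := Nat.le_of_dvd (by norm_num) h
      have h3 := hs.prime
      interval_cases s <;> revert h h3 <;> norm_num
    have hm6 : m6 (2 ^ m) ∣ (2 * (2 ^ m) ^ 2) ^ 6 - 1 := by
      rw [← Int.natCast_dvd_natCast, cast_m6 hx, Nat.cast_sub (Nat.one_le_pow _ _ (by positivity))]
      push_cast
      exact ⟨(4 * (2 ^ m : ℤ) ^ 4 - 1) * (2 * (2 ^ m : ℤ) ^ 2 + 1) * (1 + 0) *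
        (1 + 2 * (2 ^ m : ℤ) ^ 2 + 4 * (2 ^ m : ℤ) ^ 4) * 1 * 0 + ((2 * (2 ^ m : ℤ) ^ 2) ^ 4 + (2 * (2 ^ m : ℤ) ^ 2) ^ 3 -
          (2 * (2 ^ m : ℤ) ^ 2) - 1), by ring⟩
    intro i j s hij hs h
    fin_cases i <;> fin_cases j <;> first | exact absurd rfl hij | skip
    · rcases hs.1.dvd_mul.1 h with h1 | h1
      · exact not_dvd_both hm hs.1 h1 hs.2
      · exact (hlt s (prim_of_mM hm hs.1 hs.2)).1 h1
    · rcases hs.prime.dvd_mul.1 h with h1 | h1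
      · have := (prim_of_mP hm hs.prime h1).unique hs
        omega
      · exact hlt6 s hs h1
    · rcases hs.1.dvd_mul.1 h with h1 | h1
      · exact not_dvd_both hm hs.1 hs.2 h1
      · exact (hlt s (prim_of_mP hm hs.1 hs.2)).1 h1
    · rcases hs.prime.dvd_mul.1 h with h1 | h1
      · have := (prim_of_mM hm hs.prime h1).unique hs
        omega
      · exact hlt6 s hs h1
    · have hp := prim_of_mP hm hs.1 hs.2
      rcases hs.1.dvd_mul.1 h with h1 | h1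
      · have h2 := (hp.dvd_iff 6).1 (h1.trans hm6)
        revert h2; norm_num
      · exact (hlt s hp).2 h1
    · have hp := prim_of_mM hm hs.1 hs.2
      rcases hs.1.dvd_mul.1 h with h1 | h1
      · have h2 := (hp.dvd_iff 6).1 (h1.trans hm6)
        revert h2; norm_num
      · exact (hlt s hp).2 h1
  ndvd := by
    have hx : 2 ≤ 2 ^ m := Nat.le_self_pow (by omega) 2
    intro i h
    have h1 : (2 : ℤ) ∣ (msTF (2 ^ m) i : ℤ) := Int.natCast_dvd_natCast.2 h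
    fin_cases i
    · change (2 : ℤ) ∣ (mP (2 ^ m) : ℤ) at h1
      rw [cast_mP] at h1
      omega
    · change (2 : ℤ) ∣ (mM (2 ^ m) : ℤ) at h1
      rw [cast_mM hx] at h1
      omega
    · change (2 : ℤ) ∣ (m6 (2 ^ m) : ℤ) at h1
      rw [cast_m6 hx] at h1
      omega

end Cfsg.Agent.H56.Exc
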