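import Cfsg.Agent.H56.Exc.Fac
import Cfsg.Agent.H56.Exc.ToriAll

/-!
# Factorisations with a solvable factor: the rows (helper56)

`fac_E6` etc.: `NoFac` from the fullness theorems `KFull`, the `p`-local information `BT`, `ParP` and the arithmetic
`BigP`.
-/

set_option autoImplicit false
set_option linter.unusedSectionVars false

namespace Cfsg.Agent.H56.Exc

open Cfsg.Agent Cfsg.Lie

universe u

variable {F : Type u} [Field F] [Fintype F] {p f : ℕ}

theorem two_le_pow {p f : ℕ} (hp : p.Prime) (hf : f ≠ 0) : 2 ≤ p ^ f := hp.two_le.trans (Nat.le_self_pow hf p)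

/-- a power of `p` divides the order -/
theorem pow_dvd_card {G : Type*} [Group G] {D p f N : ℕ} {c : ℤ} (hp : p.Prime) (hD : ¬ p ∣ D)
    (h : (D : ℤ) * Nat.card G = ((p ^ f : ℕ) : ℤ) ^ N * c) : p ^ (N * f) ∣ Nat.card G := by
  have h1 : (p ^ (N * f) : ℕ) ∣ D * Nat.card G := by
    rw [← Int.natCast_dvd_natCast]
    refine ⟨c, ?_⟩
    push_cast at h ⊢
    rw [h, mul_comm N f, pow_mul]
  exact (Nat.Coprime.dvd_of_dvd_mul_left (Nat.Coprime.pow_left _ ((Nat.Prime.coprime_iff_not_dvd hp).2 hD)) h1)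

theorem not_dvd_gcd_sub {p f d : ℕ} (hp : p.Prime) (hf : f ≠ 0) : ¬ p ∣ Nat.gcd d (p ^ f - 1) := fun h =>
  not_dvd_fz (s := false) (q := p ^ f) (a := 1) hp (dvd_pow_self p hf) (two_le_pow hp hf) one_pos
    (by simpa [fz] using h.trans (Nat.gcd_dvd_right _ _))

theorem not_dvd_gcd_add {p f d : ℕ} (hp : p.Prime) (hf : f ≠ 0) : ¬ p ∣ Nat.gcd d (p ^ f + 1) := fun h =>
  not_dvd_fz (s := true) (q := p ^ f) (a := 1) hp (dvd_pow_self p hf) (two_le_pow hp hf) one_pos
    (by simpa [fz] using h.trans (Nat.gcd_dvd_right _ _))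

theorem lt_pow {p f N c : ℕ} (hp : p.Prime) (hf : f ≠ 0) (h : c < 2 ^ N) : c < p ^ (N * f) :=
  lt_of_lt_of_le h ((Nat.pow_le_pow_left hp.two_le N).trans
    (Nat.pow_le_pow_right hp.pos (Nat.le_mul_of_pos_right N (Nat.pos_of_ne_zero hf))))

theorem eq_two_of {p c : ℕ} (hp : p.Prime) (h : p ^ 2 ∣ c) (hc : c ∈ [8, 12, 20, 24]) : p = 2 := by
  simp only [List.mem_cons, List.not_mem_nil, or_false] at hc
  have h1 : p ∣ c := (dvd_pow_self p two_ne_zero).trans h
  have h2 : p ≤ 24 := (Nat.le_of_dvd (by omega) h1).trans (by omega)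
  have h3 := hp.two_le
  rcases hc with rfl | rfl | rfl | rfl <;> interval_cases p <;> first | rfl | (exfalso; revert h; norm_num)

theorem eq_three_of {p : ℕ} (hp : p.Prime) (h : p ^ 2 ∣ 9) : p = 3 := by
  have h1 : p ∣ 9 := (dvd_pow_self p two_ne_zero).trans h
  have h2 : p ≤ 9 := Nat.le_of_dvd (by omega) h1
  have h3 := hp.two_le
  interval_cases p <;> first | rfl | (exfalso; revert h; norm_num)

theorem fac_E7 (hp : p.Prime) (hf : f ≠ 0) (hF : Fintype.card F = p ^ f) (hE : CycFixSolv.{u})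
    (hK1 : KFull ↥(chevE7.group F) fun r => H436.Prim (p ^ f) 9 r ∨ H436.Prim (p ^ f) 14 r)
    (hK2 : KFull ↥(chevE7.group F) fun r => H436.Prim (p ^ f) 7 r ∨ H436.Prim (p ^ f) 18 r) :
    NoFac ↥(chevE7.group F) := by
  refine (tori_E7 hF hp (dvd_pow_self p hf) (two_le_pow hp hf)).noFac hE hp ?_ ?_
  · refine hK1.mono ?_
    rintro r (h | h)
    · exact ⟨1, h⟩
    · exact ⟨2, h⟩
  · intro i₀
    left
    fin_cases i₀
    · refine hK1.mono ?_
      rintro r (h | h)
      · exact ⟨1, by decide, h⟩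
      · exact ⟨2, by decide, h⟩
    · refine hK2.mono ?_
      rintro r (h | h)
      · exact ⟨0, by decide, h⟩
      · exact ⟨3, by decide, h⟩
    · refine hK2.mono ?_
      rintro r (h | h)
      · exact ⟨0, by decide, h⟩
      · exact ⟨3, by decide, h⟩
    · refine hK1.mono ?_
      rintro r (h | h)
      · exact ⟨1, by decide, h⟩
      · exact ⟨2, by decide, h⟩

theorem fac_E8 (hp : p.Prime) (hf : f ≠ 0) (hF : Fintype.card F = p ^ f) (hE : CycFixSolv.{u})
    (hK : KFull ↥(chevE8.group F) fun r => H436.Prim (p ^ f) 20 r ∨ H436.Prim (p ^ f) 24 r)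
    (hBT : ∀ r, H436.Prim (p ^ f) 20 r ∨ H436.Prim (p ^ f) 24 r → BT ↥(chevE8.group F) p r)
    (hPar : ParP p ↥(chevE8.group F))
    (h20 : p = 2 → BigP ↥(chevE8.group F) 2 (120 * f) 480 (H436.Prim (2 ^ f) 24))
    (h24 : p = 2 → BigP ↥(chevE8.group F) 2 (120 * f) 480 (H436.Prim (2 ^ f) 20)) :
    NoFac ↥(chevE8.group F) := by
  have hN : p ^ (120 * f) ∣ Nat.card ↥(chevE8.group F) := by
    apply pow_dvd_card (D := 1) hp (fun h => hp.one_lt.ne' (Nat.dvd_one.1 h))
    rw [Nat.cast_one, one_mul, ord_E8 hF, mul_assoc, mul_assoc, mul_assoc, mul_assoc, mul_assoc, mul_assoc, mul_assoc]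
  refine (tori_E8 hF hp (dvd_pow_self p hf) (two_le_pow hp hf)).noFac hE hp ?_ ?_
  · refine hK.mono ?_
    rintro r (h | h)
    · exact ⟨1, h⟩
    · exact ⟨2, h⟩
  · intro i₀
    fin_cases i₀
    · left
      refine hK.mono ?_
      rintro r (h | h)
      · exact ⟨1, by decide, h⟩
      · exact ⟨2, by decide, h⟩
    · right
      refine ⟨2, by decide, fun r h => hBT r (Or.inl h), fun r h => hBT r (Or.inr h), hPar, by decide, by decide,
        120 * f, hN, lt_pow hp hf (by decide), fun h => ?_⟩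
      have h2 := eq_two_of hp h (by decide)
      subst h2
      exact h20 rfl
    · right
      refine ⟨1, by decide, fun r h => hBT r (Or.inr h), fun r h => hBT r (Or.inl h), hPar, by decide, by decide,
        120 * f, hN, lt_pow hp hf (by decide), fun h => ?_⟩
      have h2 := eq_two_of hp h (by decide)
      subst h2
      exact h24 rfl
    · left
      refine hK.mono ?_
      rintro r (h | h)
      · exact ⟨1, by decide, h⟩
      · exact ⟨2, by decide, h⟩

theorem fac_F4 (hp : p.Prime) (hf : f ≠ 0) (hF : Fintype.card F = p ^ f) (hE : CycFixSolv.{u})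
    (hK : KFull ↥(chevF4.group F) fun r => H436.Prim (p ^ f) 8 r ∨ H436.Prim (p ^ f) 12 r)
    (hBT : ∀ r, H436.Prim (p ^ f) 8 r ∨ H436.Prim (p ^ f) 12 r → BT ↥(chevF4.group F) p r)
    (hPar : ParP p ↥(chevF4.group F))
    (h8 : p = 2 → BigP ↥(chevF4.group F) 2 (24 * f) 96 (H436.Prim (2 ^ f) 12))
    (h12 : p = 2 → BigP ↥(chevF4.group F) 2 (24 * f) 96 (H436.Prim (2 ^ f) 8)) :
    NoFac ↥(chevF4.group F) := by
  have hN : p ^ (24 * f) ∣ Nat.card ↥(chevF4.group F) := by
    apply pow_dvd_card (D := 1) hp (fun h => hp.one_lt.ne' (Nat.dvd_one.1 h))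
    rw [Nat.cast_one, one_mul, ord_F4 hF, mul_assoc, mul_assoc, mul_assoc]
  refine (tori_F4 hF hp (dvd_pow_self p hf) (two_le_pow hp hf)).noFac hE hp ?_ ?_
  · refine hK.mono ?_
    rintro r (h | h)
    · exact ⟨0, h⟩
    · exact ⟨1, h⟩
  · intro i₀
    right
    fin_cases i₀
    · refine ⟨1, by decide, fun r h => hBT r (Or.inl h), fun r h => hBT r (Or.inr h), hPar, by decide, by decide,
        24 * f, hN, lt_pow hp hf (by decide), fun h => ?_⟩
      have h2 := eq_two_of hp h (by decide)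
      subst h2
      exact h8 rfl
    · refine ⟨0, by decide, fun r h => hBT r (Or.inr h), fun r h => hBT r (Or.inl h), hPar, by decide, by decide,
        24 * f, hN, lt_pow hp hf (by decide), fun h => ?_⟩
      have h2 := eq_two_of hp h (by decide)
      subst h2
      exact h12 rfl

theorem fac_E6 (hp : p.Prime) (hf : f ≠ 0) (hF : Fintype.card F = p ^ f) (hE : CycFixSolv.{u})
    (hK : KFull ↥(chevE6.group F) fun r => H436.Prim (p ^ f) 9 r ∨ H436.Prim (p ^ f) 12 r)
    (hBT : ∀ r, H436.Prim (p ^ f) 9 r ∨ H436.Prim (p ^ f) 12 r → BT ↥(chevE6.group F) p r)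
    (hPar : ParP p ↥(chevE6.group F))
    (h9 : p = 3 → BigP ↥(chevE6.group F) 3 (36 * f) 108 (H436.Prim (3 ^ f) 12))
    (h12 : p = 2 → BigP ↥(chevE6.group F) 2 (36 * f) 108 (H436.Prim (2 ^ f) 9)) :
    NoFac ↥(chevE6.group F) := by
  have hN : p ^ (36 * f) ∣ Nat.card ↥(chevE6.group F) := by
    apply pow_dvd_card (D := Nat.gcd 3 (p ^ f - 1)) hp (not_dvd_gcd_sub hp hf)
    rw [ord_E6 hF, mul_assoc, mul_assoc, mul_assoc, mul_assoc, mul_assoc]
  refine (tori_E6 hF hp (dvd_pow_self p hf) (two_le_pow hp hf)).noFac hE hp ?_ ?_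
  · refine hK.mono ?_
    rintro r (h | h)
    · exact ⟨0, h⟩
    · exact ⟨1, h⟩
  · intro i₀
    right
    fin_cases i₀
    · refine ⟨1, by decide, fun r h => hBT r (Or.inl h), fun r h => hBT r (Or.inr h), hPar, by decide, by decide,
        36 * f, hN, lt_pow hp hf (by decide), fun h => ?_⟩
      have h2 := eq_three_of hp h
      subst h2
      exact h9 rfl
    · refine ⟨0, by decide, fun r h => hBT r (Or.inr h), fun r h => hBT r (Or.inl h), hPar, by decide, by decide,
        36 * f, hN, lt_pow hp hf (by decide), fun h => ?_⟩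
      have h2 := eq_two_of hp h (by decide)
      subst h2
      exact h12 rfl

theorem fac_TE6 (hp : p.Prime) (hf : f ≠ 0) (hF : Fintype.card F = (p ^ f) ^ 2) (hE : CycFixSolv.{u})
    (hK : KFull ↥(twistedE6 F (p ^ f)) fun r => H436.Prim (p ^ f) 12 r ∨ H436.Prim (p ^ f) 18 r)
    (hBT : ∀ r, H436.Prim (p ^ f) 12 r ∨ H436.Prim (p ^ f) 18 r → BT ↥(twistedE6 F (p ^ f)) p r)
    (hPar : ParP p ↥(twistedE6 F (p ^ f)))
    (h18 : p = 3 → BigP ↥(twistedE6 F (p ^ f)) 3 (36 * f) 108 (H436.Prim (3 ^ f) 12))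
    (h12 : p = 2 → BigP ↥(twistedE6 F (p ^ f)) 2 (36 * f) 108 (H436.Prim (2 ^ f) 18)) :
    NoFac ↥(twistedE6 F (p ^ f)) := by
  have hq : IsPrimePow (p ^ f) := hp.isPrimePow.pow hf
  have hN : p ^ (36 * f) ∣ Nat.card ↥(twistedE6 F (p ^ f)) := by
    apply pow_dvd_card (D := Nat.gcd 3 (p ^ f + 1)) hp (not_dvd_gcd_add hp hf)
    rw [ord_TE6 hq hF, mul_assoc, mul_assoc, mul_assoc, mul_assoc, mul_assoc]
  refine (tori_TE6 hq hF hp (dvd_pow_self p hf) (two_le_pow hp hf)).noFac hE hp ?_ ?_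
  · refine hK.mono ?_
    rintro r (h | h)
    · exact ⟨0, h⟩
    · exact ⟨1, h⟩
  · intro i₀
    right
    fin_cases i₀
    · refine ⟨1, by decide, fun r h => hBT r (Or.inl h), fun r h => hBT r (Or.inr h), hPar, by decide, by decide,
        36 * f, hN, lt_pow hp hf (by decide), fun h => ?_⟩
      have h2 := eq_two_of hp h (by decide)
      subst h2
      exact h12 rfl
    · refine ⟨0, by decide, fun r h => hBT r (Or.inr h), fun r h => hBT r (Or.inl h), hPar, by decide, by decide,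
        36 * f, hN, lt_pow hp hf (by decide), fun h => ?_⟩
      have h2 := eq_three_of hp h
      subst h2
      exact h18 rfl

theorem fac_G2 (hp : p.Prime) (hf : f ≠ 0) (h3 : 3 ≤ p ^ f) (hF : Fintype.card F = p ^ f) (hE : CycFixSolv.{u})
    (hK : KFull ↥(chevG2.group F) fun r => H436.Prim (p ^ f) 3 r ∨ H436.Prim (p ^ f) 6 r)
    (hBT : ∀ r, H436.Prim (p ^ f) 3 r ∨ H436.Prim (p ^ f) 6 r → BT ↥(chevG2.group F) p r)
    (hPar : ParP p ↥(chevG2.group F)) :
    NoFac ↥(chevG2.group F) := by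
  have hN : p ^ (6 * f) ∣ Nat.card ↥(chevG2.group F) := by
    apply pow_dvd_card (D := 1) hp (fun h => hp.one_lt.ne' (Nat.dvd_one.1 h))
    rw [Nat.cast_one, one_mul, ord_G2 hF, mul_assoc]
  have h6 : ¬ p ^ 2 ∣ 6 := by
    intro h
    have h1 : p ∣ 6 := (dvd_pow_self p two_ne_zero).trans h
    have h2 : p ≤ 6 := Nat.le_of_dvd (by omega) h1
    have h3 := hp.two_le
    interval_cases p <;> revert h <;> norm_num
  have hlt : 6 * 6 < p ^ (6 * f) := lt_pow hp hf (by decide)
  refine (tori_G2 hF hp (dvd_pow_self p hf) h3).noFac hE hp ?_ ?_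
  · refine hK.mono ?_
    rintro r (h | h)
    · exact ⟨0, h⟩
    · exact ⟨1, h⟩
  · intro i₀
    right
    fin_cases i₀
    · refine ⟨1, by decide, fun r h => hBT r (Or.inl h), fun r h => hBT r (Or.inr h), hPar, by decide, by decide,
        6 * f, hN, hlt, fun h => absurd h h6⟩
    · refine ⟨0, by decide, fun r h => hBT r (Or.inr h), fun r h => hBT r (Or.inl h), hPar, by decide, by decide,
        6 * f, hN, hlt, fun h => absurd h h6⟩

end Cfsg.Agent.H56.Exc
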