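import Cfsg.Agent.H56.Exc.FacRows
import Cfsg.Agent.H563.KG.KE6
import Cfsg.Agent.H325.G2Small
import Cfsg.Agent.H325.IsoExc
import Cfsg.Agent.H74.G2Small
import Cfsg.Agent.H983.ElG.KOut
import Cfsg.Agent.H396.CommTab2

/-!
# No factorisation with a solvable factor: `G₂(q)`, `q ≥ 3` (helper56)
-/

set_option autoImplicit false

namespace Cfsg.Agent.H56.Exc

open Cfsg.Lie Cfsg.Agent.H563.KG Cfsg.Agent.OrdDiv

theorem exists_two {F : Type} [Field F] [Fintype F] (h : 4 ≤ Fintype.card F) :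
    ∃ a a' : F, a ≠ 0 ∧ a ≠ 1 ∧ a' ≠ 0 ∧ a' ≠ 1 ∧ a ≠ a' := by
  classical
  have h1 : 1 < ((Finset.univ : Finset F) \ {0, 1}).card := by
    have h2 := Finset.le_card_sdiff ({0, 1} : Finset F) (Finset.univ : Finset F)
    have h3 : ({0, 1} : Finset F).card ≤ 2 := Finset.card_le_two
    rw [Finset.card_univ] at h2
    omega
  obtain ⟨a, ha, b, hb, hab⟩ := Finset.one_lt_card.1 h1
  simp only [Finset.mem_sdiff, Finset.mem_univ, true_and, Finset.mem_insert, Finset.mem_singleton, not_or] at ha hb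
  exact ⟨a, b, ha.1, ha.2, hb.1, hb.2, hab⟩

/-- **G₂(q)**, `q ≥ 3` -/
theorem noFac_G2 (tb : OrderTable.{0}) (hE : CycFixSolv.{0}) (hcf : CF)
    (hnm : ∀ (S : Type) [Group S] [Finite S] [IsSimpleGroup S], ¬ IsMulCommutative S → ∃ g, H436.IsNamed g S)
    (F : Type) [Field F] [Fintype F] (h3 : 3 ≤ Fintype.card F) : NoFac ↥(chevG2.group F) := by
  obtain ⟨p, f, _, hp, hf, hF⟩ := exists_pf F
  have := Fact.mk hp
  have hK : Fintype.card F = 3 ∨ Fintype.card F = 4 →
      ∀ M : Subgroup ↥(chevG2.group F), M ≠ ⊤ → 7 ∣ Nat.card M → 13 ∣ Nat.card M → Nat.card M = 1092 :=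
    fun h M hM h7 h13 => H74.G2Small.card_eq tb hcf hE h M hM
      (Nat.Coprime.mul_dvd_of_dvd_of_dvd (by norm_num) h7 h13)
  rcases Nat.lt_or_ge (Fintype.card F) 5 with h5 | h5
  · obtain h | h : Fintype.card F = 3 ∨ Fintype.card F = 4 := by omega
    · exact H325.G2Small.noFac_G2_three hE hcf h (hK (Or.inl h))
    · exact H325.G2Small.noFac_G2_four hE h (hK (Or.inr h))
  · refine fac_G2 hp (by omega) (by rw [← hF]; exact h3) hF hE
      (H983.KG2.kfull_chevG2 hnm hp (by omega) (by rw [← hF]; exact h5) hF) ?_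
      (H396.CommTab.hasCG_G2 F p (exists_two (by omega))).par
    rintro r (h | h)
    · exact H325.IsoExc.piso_G2 (by omega) (Or.inl rfl) (by rw [hF]; exact h)
    · exact H325.IsoExc.piso_G2 (by omega) (Or.inr rfl) (by rw [hF]; exact h)

end Cfsg.Agent.H56.Exc
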