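import Cfsg.Agent.H56.Exc.FacRows
import Cfsg.Agent.H56.Exc.BigTF4

/-!
# Factorisations with a solvable factor: `²F₄(q)` (helper56)
-/

set_option autoImplicit false
set_option linter.unusedSectionVars false

namespace Cfsg.Agent.H56.Exc

open Cfsg.Agent Cfsg.Lie

universe u

variable {F : Type u} [Field F] [Fintype F] {m : ℕ}

theorem fac_TF4 (hF : Fintype.card F = 2 ^ (2 * m + 1)) (hm : 1 ≤ m) (hE : CycFixSolv.{u})
    (hK : KFull ↥(twistedF4 F (2 ^ m)) fun r => clTF (2 ^ m) 0 r ∨ clTF (2 ^ m) 1 r)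
    (hBT : ∀ r, clTF (2 ^ m) 0 r ∨ clTF (2 ^ m) 1 r → BT ↥(twistedF4 F (2 ^ m)) 2 r)
    (hPar : ParP 2 ↥(twistedF4 F (2 ^ m)))
    (h0 : BigP ↥(twistedF4 F (2 ^ m)) 2 (12 * (2 * m + 1)) 144 (clTF (2 ^ m) 1))
    (h1 : BigP ↥(twistedF4 F (2 ^ m)) 2 (12 * (2 * m + 1)) 144 (clTF (2 ^ m) 0)) :
    NoFac ↥(twistedF4 F (2 ^ m)) := by
  have hN : 2 ^ (12 * (2 * m + 1)) ∣ Nat.card ↥(twistedF4 F (2 ^ m)) := by
    apply pow_dvd_card (D := 1) Nat.prime_two (by norm_num)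
    rw [Nat.cast_one, one_mul, ord_TF4 hF, ← q_TF]
    push_cast
    rw [mul_assoc, mul_assoc, mul_assoc]
  have hlt : 144 < 2 ^ (12 * (2 * m + 1)) := lt_pow (N := 12) Nat.prime_two (by omega) (by norm_num)
  refine (tori_TF4 hF hm).noFac hE Nat.prime_two ?_ ?_
  · refine hK.mono ?_
    rintro r (h | h)
    · exact ⟨0, h⟩
    · exact ⟨1, h⟩
  · intro i₀
    fin_cases i₀
    · right
      exact ⟨1, by decide, fun r h => hBT r (Or.inl h), fun r h => hBT r (Or.inr h), hPar, by decide, by decide,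
        12 * (2 * m + 1), hN, hlt, fun _ => h0⟩
    · right
      exact ⟨0, by decide, fun r h => hBT r (Or.inr h), fun r h => hBT r (Or.inl h), hPar, by decide, by decide,
        12 * (2 * m + 1), hN, hlt, fun _ => h1⟩
    · left
      refine hK.mono ?_
      rintro r (h | h)
      · exact ⟨0, by decide, h⟩
      · exact ⟨1, by decide, h⟩

end Cfsg.Agent.H56.Exc
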