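import Cfsg.Agent.H56.Exc.Big

/-!
# The simple section of a group with several big primes (helper56)

* `exists_core` : the largest normal subgroup of order prime to a set of primes;
* `eq_bot_of_solvable` : a group without nontrivial normal subgroups of order prime to all big primes has no nontrivial
  solvable normal subgroup, if no big prime dominates all others;
* `exists_section` : the section.
-/

set_option autoImplicit false
set_option linter.unusedSectionVars false

namespace Cfsg.Agent.H56.Exc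

open Subgroup

variable {G : Type*} [Group G]

theorem card_sup_dvd [Finite G] (A B : Subgroup G) [A.Normal] : Nat.card ↥(A ⊔ B) ∣ Nat.card A * Nat.card B := by
  have h1 : A.relIndex (A ⊔ B) = A.relIndex B := relIndex_sup_left _ _
  have h2 : Nat.card A * A.relIndex (A ⊔ B) = Nat.card ↥(A ⊔ B) := by
    have h3 := relIndex_mul_relIndex (H := ⊥) (K := A) (L := A ⊔ B) bot_le le_sup_left
    rw [relIndex_bot_left, relIndex_bot_left] at h3
    exact h3
  rw [← h2, h1]
  exact mul_dvd_mul_left _ (relIndex_dvd_card A B)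

/-- the largest normal subgroup of order prime to the primes in `B` -/
theorem exists_core (G : Type*) [Group G] [Finite G] (B : ℕ → Prop) (hB : ∀ r, B r → r.Prime) :
    ∃ O : Subgroup G, O.Normal ∧ (∀ r, B r → ¬ r ∣ Nat.card O) ∧
      ∀ K : Subgroup G, K.Normal → (∀ r, B r → ¬ r ∣ Nat.card K) → K ≤ O := by
  classical
  let S : Set (Subgroup G) := {N | N.Normal ∧ ∀ r, B r → ¬ r ∣ Nat.card N}
  have hne : S.Nonempty := ⟨⊥, inferInstance, fun r hr h => by
    rw [Subgroup.card_bot] at h
    exact (hB r hr).one_lt.ne' (Nat.dvd_one.1 h)⟩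
  obtain ⟨O, hO, hmax⟩ := (Set.toFinite S).exists_maximalFor (fun N : Subgroup G => Nat.card N) S hne
  refine ⟨O, hO.1, hO.2, fun K hK hKr => ?_⟩
  have := hO.1
  have h1 : O ⊔ K ∈ S := by
    refine ⟨inferInstance, fun r hr h => ?_⟩
    rcases (hB r hr).dvd_mul.1 (h.trans (card_sup_dvd O K)) with h | h
    · exact hO.2 r hr h
    · exact hKr r hr h
  have h2 := hmax h1 (Subgroup.card_le_of_le le_sup_left)
  have h3 : O = O ⊔ K := Subgroup.eq_of_le_of_card_ge le_sup_left h2
  rw [h3]
  exact le_sup_right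

/-- `B`-reduced: no nontrivial normal subgroup has order prime to `B` -/
def Red (G : Type*) [Group G] (B : ℕ → Prop) : Prop :=
  ∀ N : Subgroup G, N.Normal → (∀ r, B r → ¬ r ∣ Nat.card N) → N = ⊥

theorem exists_red (G : Type*) [Group G] [Finite G] (B : ℕ → Prop) (hB : ∀ r, B r → r.Prime) :
    ∃ (O : Subgroup G) (_ : O.Normal), (∀ r, B r → ¬ r ∣ Nat.card O) ∧ Red (G ⧸ O) B := by
  obtain ⟨O, hO, h1, h2⟩ := exists_core G B hB
  refine ⟨O, hO, h1, fun N hN hNr => ?_⟩
  have h3 : N.comap (QuotientGroup.mk' O) ≤ O := by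
    apply h2 _ (hN.comap _)
    intro r hr h
    have h4 : Nat.card (N.comap (QuotientGroup.mk' O)) = Nat.card O * Nat.card N := by
      have h5 := Subgroup.card_mul_index (N.comap (QuotientGroup.mk' O))
      rw [Subgroup.index_comap_of_surjective _ (QuotientGroup.mk'_surjective O)] at h5
      have h6 := Subgroup.card_mul_index N
      have h7 := Subgroup.card_eq_card_quotient_mul_card_subgroup O
      have h8 : 0 < N.index := Nat.pos_of_ne_zero Subgroup.index_ne_zero_of_finite
      apply Nat.eq_of_mul_eq_mul_right h8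
      rw [h5, mul_assoc, h6, h7, mul_comm]
    rw [h4] at h
    rcases (hB r hr).dvd_mul.1 h with h | h
    · exact h1 r hr h
    · exact hNr r hr h
  rw [eq_bot_iff]
  intro a ha
  obtain ⟨b, rfl⟩ := QuotientGroup.mk'_surjective O a
  have h4 : b ∈ O := h3 ha
  rw [Subgroup.mem_bot]
  exact (QuotientGroup.eq_one_iff b).2 h4

theorem Red.exists_dvd {B : ℕ → Prop} (h : Red G B) {N : Subgroup G} (hN : N.Normal) (h1 : N ≠ ⊥) :
    ∃ r, B r ∧ r ∣ Nat.card N := by
  by_contra hcon
  push Not at hcon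
  exact h1 (h N hN hcon)

variable [Finite G]

/-- if a subgroup of order `r` is normal then `|G|` divides `e * m` -/
theorem Big.card_dvd_of_normal {r m e : ℕ} (h : Big G r m e) {x : G} (hx : orderOf x = r) (hn : (zpowers x).Normal) :
    Nat.card G ∣ e * m := by
  have h2 := h.card_normalizer_dvd hx
  have h3 : normalizer (zpowers x : Set G) = ⊤ := Subgroup.normalizer_eq_top_iff.2 hn
  rwa [h3, Subgroup.card_top] at h2

/-- a nontrivial normal `r`-subgroup contains a normal subgroup of order `r` -/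
theorem Big.exists_normal_zpowers {r m e : ℕ} (h : Big G r m e) {P : Subgroup G} (hP : P.Normal) (hPr : IsPGroup r P)
    (h1 : P ≠ ⊥) : ∃ x : G, orderOf x = r ∧ (zpowers x).Normal := by
  have : Fact r.Prime := ⟨h.prime⟩
  have hc := h.isCyclic_of_isPGroup hPr
  obtain ⟨x, hxP, hx, -⟩ := exists_central_orderOf hPr h1
  refine ⟨x, hx, ⟨?_⟩⟩
  rintro _ ⟨k, rfl⟩ g
  have h2 : g * x * g⁻¹ ∈ zpowers x := by
    apply mem_zpowers_of_cyclic hc hxP (hP.conj_mem x hxP g)
    rw [show orderOf (g * x * g⁻¹) = orderOf x from by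
      rw [← MulAut.conj_apply]; exact (MulAut.conj g).orderOf_eq x]
  have h3 : g * x ^ k * g⁻¹ = (g * x * g⁻¹) ^ k := (conj_zpow).symm
  show g * x ^ k * g⁻¹ ∈ zpowers x
  rw [h3]
  exact zpow_mem h2 k

/-- a nontrivial solvable normal subgroup contains a nontrivial abelian normal subgroup -/
theorem exists_abelian_normal {G : Type*} [Group G] (N : Subgroup G) [N.Normal] [Group.IsSolvable N] (hN : N ≠ ⊥) :
    ∃ A : Subgroup G, A.Normal ∧ A ≠ ⊥ ∧ A ≤ N ∧ ∀ x ∈ A, ∀ y ∈ A, x * y = y * x := by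
  classical
  have hex : ∃ n, derivedSeries N n = ⊥ := Group.IsSolvable.solvable
  obtain ⟨n, hn, hmin⟩ : ∃ n, derivedSeries N n = ⊥ ∧ ∀ m < n, derivedSeries N m ≠ ⊥ :=
    ⟨Nat.find hex, Nat.find_spec hex, fun m hm => Nat.find_min hex hm⟩
  cases n with
  | zero =>
    exfalso
    apply hN
    rw [derivedSeries_zero] at hn
    rw [Subgroup.eq_bot_iff_forall]
    intro x hx
    have h1 : (⟨x, hx⟩ : N) ∈ (⊤ : Subgroup N) := mem_top _
    rw [hn, mem_bot] at h1
    exact congrArg Subtype.val h1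
  | succ k =>
    have h1 := hmin k (Nat.lt_succ_self k)
    refine ⟨(derivedSeries N k).map N.subtype, inferInstance, ?_, ?_, ?_⟩
    · intro h2
      apply h1
      rwa [Subgroup.map_eq_bot_iff_of_injective _ N.subtype_injective] at h2
    · rintro _ ⟨x, -, rfl⟩
      exact x.2
    · rw [derivedSeries_succ, Subgroup.commutator_eq_bot_iff_le_centralizer] at hn
      rintro _ ⟨x, hx, rfl⟩ _ ⟨y, hy, rfl⟩
      have h2 := (mem_centralizer_iff.1 (hn hx)) y hy
      rw [← map_mul, ← h2, map_mul]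

/-- a family of big primes such that no subgroup of big prime order is normal -/
structure RFam (G : Type*) [Group G] (B : ℕ → ℕ → ℕ → Prop) : Prop where
  big : ∀ r m e, B r m e → Big G r m e
  dvd : ∀ r m e, B r m e → r ∣ Nat.card G
  sep : ∀ r m e, B r m e → ¬ Nat.card G ∣ e * m

/-- the primes of a family -/
def Pr (B : ℕ → ℕ → ℕ → Prop) (r : ℕ) : Prop := ∃ m e, B r m e

variable {B : ℕ → ℕ → ℕ → Prop}

/-- in a reduced group with a family of big primes solvable normal subgroups are trivial -/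
theorem RFam.eq_bot_of_solvable (h : RFam G B) (hred : Red G (Pr B)) {N : Subgroup G} (hN : N.Normal)
    (hs : Group.IsSolvable N) : N = ⊥ := by
  by_contra hne
  obtain ⟨A, hA, hA1, -, hcomm⟩ := exists_abelian_normal N hne
  obtain ⟨r, ⟨m, e, hr⟩, hrA⟩ := hred.exists_dvd hA hA1
  have hb := h.big r m e hr
  have : Fact r.Prime := ⟨hb.prime⟩
  -- the elements of order dividing `r`
  let P : Subgroup G :=
    { carrier := {a | a ∈ A ∧ a ^ r = 1}
      one_mem' := ⟨one_mem _, one_pow _⟩
      mul_mem' := fun {a b} ha hb => ⟨mul_mem ha.1 hb.1, by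
        rw [(show Commute a b from hcomm a ha.1 b hb.1).mul_pow, ha.2, hb.2, one_mul]⟩
      inv_mem' := fun {a} ha => ⟨inv_mem ha.1, by rw [inv_pow, ha.2, inv_one]⟩ }
  have hPn : P.Normal := ⟨fun a ha g => ⟨hA.conj_mem a ha.1 g, by rw [conj_pow, ha.2, mul_one, mul_inv_cancel]⟩⟩
  have hPr : IsPGroup r P := by
    rw [IsPGroup.iff_orderOf]
    intro a
    have h1 : a ^ r = 1 := Subtype.ext a.2.2
    rcases (Nat.dvd_prime hb.prime).1 (orderOf_dvd_of_pow_eq_one h1) with h2 | h2
    · exact ⟨0, by rw [h2, pow_zero]⟩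
    · exact ⟨1, by rw [h2, pow_one]⟩
  have hP1 : P ≠ ⊥ := by
    obtain ⟨a, ha⟩ := exists_prime_orderOf_dvd_card' r hrA
    intro h2
    have h3 : (a : G) ∈ P := ⟨a.2, by rw [← ha]; exact congrArg Subtype.val (pow_orderOf_eq_one a)⟩
    rw [h2, mem_bot] at h3
    have h4 : a = 1 := Subtype.ext h3
    rw [h4, orderOf_one] at ha
    exact hb.prime.one_lt.ne ha
  obtain ⟨x, hx, hxn⟩ := hb.exists_normal_zpowers hPn hPr hP1
  exact h.sep r m e hr (hb.card_dvd_of_normal hx hxn)

/-- passage to a quotient by a normal subgroup of order prime to the family -/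
theorem RFam.of_quotient (hbig : ∀ r m e, B r m e → Big G r m e) (hdvd : ∀ r m e, B r m e → r ∣ Nat.card G)
    (O : Subgroup G) [O.Normal] (hO : ∀ r, Pr B r → ¬ r ∣ Nat.card O)
    (hsep : ∀ r m e, B r m e → ¬ Nat.card (G ⧸ O) ∣ e * m) : RFam (G ⧸ O) B := by
  refine ⟨fun r m e hr => (hbig r m e hr).quotient O (hO r ⟨m, e, hr⟩), fun r m e hr => ?_, hsep⟩
  have h1 := hdvd r m e hr
  rw [Subgroup.card_eq_card_quotient_mul_card_subgroup O] at h1
  exact ((hbig r m e hr).prime.dvd_mul.1 h1).resolve_right (hO r ⟨m, e, hr⟩)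

end Cfsg.Agent.H56.Exc
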