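import Cfsg.Agent.H56.Exc.Solv

/-!
# Big primes from cyclic tori: the automizer through Sylow's theorem (helper56)

`Big.of_cyc` : a cyclic subgroup `T` of known order containing the centralisers of its elements of order `r`, and the
congruence `|G| / |T| = a mod r`, give `Big`.
-/

set_option autoImplicit false
set_option linter.unusedSectionVars false

namespace Cfsg.Agent.H56.Exc

open Subgroup

/-- a cyclic subgroup of order `m / δ`, `δ ∣ d`, containing the centralisers of its elements of order `r` -/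
def CycCard (G : Type*) [Group G] (r m d : ℕ) : Prop :=
  ∃ T : Subgroup G, IsCyclic ↥T ∧ Nat.card ↥T ∣ m ∧ m ∣ d * Nat.card ↥T ∧ r ∣ Nat.card ↥T ∧
    ∀ y ∈ T, orderOf y = r → centralizer {y} ≤ T

variable {G : Type*} [Group G] [Finite G] {r m d e : ℕ}

theorem exists_automizer (hr : r.Prime) {x : G} (hx : orderOf x = r) :
    ∃ a, Nat.card ↥(normalizer (zpowers x : Set G)) = a * Nat.card ↥(centralizer {x}) ∧ a ∣ r - 1 ∧ 0 < a ∧
      ∀ y, y * x * y⁻¹ ∈ zpowers x → Commute (y ^ a) x := by
  have : Fact r.Prime := ⟨hr⟩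
  set N : Subgroup G := normalizer (zpowers x : Set G) with hN
  let φ : N →* MulAut ↥(zpowers x) := (zpowers x).normalizerMonoidHom
  have hcard : Nat.card ↥(zpowers x) = r := by rw [Nat.card_zpowers, hx]
  have hφ1 : ∀ y : N, φ y = 1 ↔ (y : G) ∈ centralizer {x} := by
    intro y
    constructor
    · intro h1
      have h2 : (φ y) ⟨x, mem_zpowers x⟩ = ⟨x, mem_zpowers x⟩ := by rw [h1]; rfl
      have h3 : (y : G) * x * (y : G)⁻¹ = x := congrArg Subtype.val h2
      rw [mem_centralizer_singleton_iff]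
      rwa [mul_inv_eq_iff_eq_mul] at h3
    · intro h1
      rw [mem_centralizer_singleton_iff] at h1
      ext ⟨a, ha⟩
      obtain ⟨k, rfl⟩ := ha
      show (y : G) * (x ^ k) * (y : G)⁻¹ = x ^ k
      have h2 : Commute (y : G) x := h1
      rw [(h2.zpow_right k).eq, mul_inv_cancel_right]
  have hCN : centralizer {x} ≤ N := by
    intro y hy
    rw [mem_centralizer_singleton_iff] at hy
    have hy' : Commute y x := hy
    rw [hN, mem_normalizer_iff]
    have hall : ∀ k : ℤ, y * x ^ k * y⁻¹ = x ^ k := fun k => by rw [(hy'.zpow_right k).eq, mul_inv_cancel_right]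
    intro a
    constructor
    · rintro ⟨k, rfl⟩
      exact ⟨k, (hall k).symm⟩
    · rintro ⟨k, hk⟩
      refine ⟨k, ?_⟩
      have h1 : x ^ k = y * a * y⁻¹ := hk
      have h2 := hall k
      show x ^ k = a
      have h3 : y * x ^ k * y⁻¹ = y * a * y⁻¹ := by rw [h2, h1]
      exact mul_left_cancel (mul_right_cancel h3)
  have hker : φ.ker = (centralizer {x}).subgroupOf N := by
    ext y
    rw [MonoidHom.mem_ker, hφ1, mem_subgroupOf]
  have hkc : Nat.card φ.ker = Nat.card ↥(centralizer {x}) := by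
    rw [hker]
    exact Nat.card_congr (Subgroup.subgroupOfEquivOfLe hCN).toEquiv
  have hA : Nat.card (MulAut ↥(zpowers x)) = r - 1 := by
    have h1 := IsCyclic.mulAutMulEquiv ↥(zpowers x)
    rw [hcard] at h1
    rw [Nat.card_congr h1.toEquiv, Nat.card_eq_fintype_card, ZMod.card_units]
  refine ⟨Nat.card φ.range, ?_, ?_, Nat.card_pos, fun y hy => ?_⟩
  · rw [Subgroup.card_eq_card_quotient_mul_card_subgroup φ.ker,
      Nat.card_congr (QuotientGroup.quotientKerEquivRange φ).toEquiv, hkc]
  · rw [← hA]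
    exact Subgroup.card_subgroup_dvd_card _
  · have hyN : y ∈ N := by
      have h1 : ∀ a ∈ zpowers x, y * a * y⁻¹ ∈ zpowers x := by
        rintro _ ⟨k, rfl⟩
        show y * x ^ k * y⁻¹ ∈ _
        rw [← conj_zpow]
        exact zpow_mem hy k
      have h2 : (zpowers x).map (MulAut.conj y).toMonoidHom = zpowers x := by
        apply Subgroup.eq_of_le_of_card_ge
        · rintro _ ⟨a, ha, rfl⟩
          exact h1 a ha
        · exact (Nat.card_congr ((zpowers x).equivMapOfInjective _ (MulAut.conj y).injective).toEquiv).le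
      rw [hN, mem_normalizer_iff]
      intro a
      refine ⟨h1 a, fun h3 => ?_⟩
      have h4 : y * a * y⁻¹ ∈ (zpowers x).map (MulAut.conj y).toMonoidHom := by rw [h2]; exact h3
      obtain ⟨b, hb, hb'⟩ := h4
      have h5 : y * b * y⁻¹ = y * a * y⁻¹ := hb'
      have h6 : b = a := mul_left_cancel (mul_right_cancel h5)
      rw [← h6]; exact hb
    have h1 : φ ⟨y, hyN⟩ ^ Nat.card φ.range = 1 := by
      have h2 := pow_card_eq_one' (x := (⟨φ ⟨y, hyN⟩, ⟨_, rfl⟩⟩ : φ.range))
      exact congrArg Subtype.val h2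
    rw [← map_pow, hφ1] at h1
    rw [mem_centralizer_singleton_iff] at h1
    exact h1

/-- **Big primes from a cyclic torus.** -/
theorem Big.of_cyc (hr : r.Prime) (h : CycCard G r m d)
    (hnum : ∀ t c a, t ∣ m → m ∣ d * t → Nat.card G = t * c → a ∣ r - 1 → c ≡ a [MOD r] → a ∣ e)
    (hre : ¬ r ∣ e) : Big G r m e := by
  have : Fact r.Prime := ⟨hr⟩
  obtain ⟨T, hTc, hTm, hmT, hrT, hT⟩ := h
  -- an element of order `r` of `T`
  obtain ⟨y, hy⟩ := exists_prime_orderOf_dvd_card' r hrT
  have hy0 : orderOf (y : G) = r := by rw [Subgroup.orderOf_coe, hy]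
  have hCy : centralizer {(y : G)} = T := by
    refine le_antisymm (hT y y.2 hy0) fun z hz => ?_
    rw [mem_centralizer_singleton_iff]
    let _ := IsCyclic.commGroup (α := ↥T)
    have h1 : (⟨z, hz⟩ : T) * y = y * ⟨z, hz⟩ := mul_comm _ _
    exact congrArg Subtype.val h1
  -- the Sylow subgroup
  have hyp : IsPGroup r (zpowers (y : G)) := by
    rw [IsPGroup.iff_card]; exact ⟨1, by rw [Nat.card_zpowers, hy0, pow_one]⟩
  obtain ⟨P, hP⟩ := hyp.exists_le_sylow
  have hP1 : (P : Subgroup G) ≠ ⊥ := by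
    intro h1
    rw [h1, le_bot_iff, zpowers_eq_bot] at hP
    rw [hP, orderOf_one] at hy0
    exact hr.one_lt.ne hy0
  obtain ⟨z, hzP, hz, hPz⟩ := exists_central_orderOf P.2 hP1
  -- `z` commutes with `y`, so `z ∈ T`
  have hzT : z ∈ T := by
    rw [← hCy, mem_centralizer_singleton_iff]
    have h1 := mem_centralizer_singleton_iff.1 (hPz (hP (mem_zpowers _)))
    exact h1.symm
  have hCz : centralizer {z} = T := by
    refine le_antisymm (hT z hzT hz) fun w hw => ?_
    rw [mem_centralizer_singleton_iff]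
    let _ := IsCyclic.commGroup (α := ↥T)
    have h1 : (⟨w, hw⟩ : T) * ⟨z, hzT⟩ = ⟨z, hzT⟩ * ⟨w, hw⟩ := mul_comm _ _
    exact congrArg Subtype.val h1
  have hPT : (P : Subgroup G) ≤ T := hCz ▸ hPz
  -- every element of order `r` is conjugate to a generator of `zpowers z`
  have hconj : ∀ x : G, orderOf x = r → ∃ g : G, g * x * g⁻¹ ∈ T := by
    intro x hx
    have hxp : IsPGroup r (zpowers x) := by
      rw [IsPGroup.iff_card]; exact ⟨1, by rw [Nat.card_zpowers, hx, pow_one]⟩
    obtain ⟨Q, hQ⟩ := hxp.exists_le_sylow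
    obtain ⟨g, hg⟩ := MulAction.exists_smul_eq G Q P
    refine ⟨g, hPT ?_⟩
    rw [← hg]
    exact ⟨x, hQ (mem_zpowers x), rfl⟩
  have key : ∀ x : G, orderOf x = r → ∃ g : G, ∀ w, w ∈ centralizer {x} ↔ g * w * g⁻¹ ∈ T := by
    intro x hx
    obtain ⟨g, hg⟩ := hconj x hx
    refine ⟨g, fun w => ?_⟩
    have ho : orderOf (g * x * g⁻¹) = r := by
      rw [← hx, ← MulAut.conj_apply]; exact (MulAut.conj g).orderOf_eq x
    have hCg : centralizer {g * x * g⁻¹} = T := by
      refine le_antisymm (hT _ hg ho) fun w hw => ?_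
      rw [mem_centralizer_singleton_iff]
      let _ := IsCyclic.commGroup (α := ↥T)
      have h1 : (⟨w, hw⟩ : T) * ⟨_, hg⟩ = ⟨_, hg⟩ * ⟨w, hw⟩ := mul_comm _ _
      exact congrArg Subtype.val h1
    rw [← hCg, mem_centralizer_singleton_iff, mem_centralizer_singleton_iff]
    have e1 : g * w * g⁻¹ * (g * x * g⁻¹) = g * (w * x) * g⁻¹ := by group
    have e2 : g * x * g⁻¹ * (g * w * g⁻¹) = g * (x * w) * g⁻¹ := by group
    rw [e1, e2]
    constructor
    · intro h1; rw [h1]
    · intro h1; exact mul_left_cancel (mul_right_cancel h1)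
  have hmap : ∀ x : G, orderOf x = r → ∃ f : ↥(centralizer {x}) →* T, Function.Bijective f := by
    intro x hx
    obtain ⟨g, hg⟩ := key x hx
    refine ⟨((MulAut.conj g).toMonoidHom.comp (centralizer {x}).subtype).codRestrict _ fun w => (hg w).1 w.2, ?_, ?_⟩
    · intro a b hab
      have h1 : g * (a : G) * g⁻¹ = g * (b : G) * g⁻¹ := congrArg (fun z : T => (z : G)) hab
      exact Subtype.ext (mul_left_cancel (mul_right_cancel h1))
    · intro b
      refine ⟨⟨g⁻¹ * b * g, ?_⟩, ?_⟩
      · rw [hg]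
        have : g * (g⁻¹ * (b : G) * g) * g⁻¹ = b := by group
        rw [this]; exact b.2
      · apply Subtype.ext
        show g * (g⁻¹ * (b : G) * g) * g⁻¹ = b
        group
  -- the automizer of `z`
  obtain ⟨a, ha1, ha2, ha0, ha3⟩ := exists_automizer hr hz
  have hPc : IsCyclic ↥(P : Subgroup G) :=
    isCyclic_of_injective (Subgroup.inclusion hPT) (Subgroup.inclusion_injective hPT)
  have hNP : normalizer ((P : Subgroup G) : Set G) = normalizer (zpowers z : Set G) := by
    apply le_antisymm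
    · have hsub : ∀ w ∈ normalizer ((P : Subgroup G) : Set G), ∀ b ∈ zpowers z, w * b * w⁻¹ ∈ zpowers z := by
        rintro w hw _ ⟨k, rfl⟩
        show w * z ^ k * w⁻¹ ∈ _
        rw [← conj_zpow]
        apply zpow_mem
        apply mem_zpowers_of_cyclic hPc hzP ((mem_normalizer_iff.1 hw z).1 hzP)
        rw [show orderOf (w * z * w⁻¹) = orderOf z from by
          rw [← MulAut.conj_apply]; exact (MulAut.conj w).orderOf_eq _]
      intro w hw
      rw [mem_normalizer_iff]
      intro b
      refine ⟨hsub w hw b, fun hb => ?_⟩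
      have := hsub w⁻¹ (inv_mem hw) _ hb
      have e1 : w⁻¹ * (w * b * w⁻¹) * w⁻¹⁻¹ = b := by group
      rwa [e1] at this
    · have hTn : ∀ w ∈ normalizer (zpowers z : Set G), ∀ b ∈ T, w * b * w⁻¹ ∈ T := by
        intro w hw b hb
        have h1 : w * z * w⁻¹ ∈ zpowers z := (mem_normalizer_iff.1 hw z).1 (mem_zpowers z)
        have h2 : w * z * w⁻¹ ∈ T := by
          obtain ⟨k, hk⟩ := h1
          rw [← hk]; exact zpow_mem hzT k
        have h3 : centralizer {w * z * w⁻¹} = T := by
          have ho : orderOf (w * z * w⁻¹) = r := by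
            rw [← hz, ← MulAut.conj_apply]; exact (MulAut.conj w).orderOf_eq z
          refine le_antisymm (hT _ h2 ho) fun v hv => ?_
          rw [mem_centralizer_singleton_iff]
          let _ := IsCyclic.commGroup (α := ↥T)
          have h1 : (⟨v, hv⟩ : T) * ⟨_, h2⟩ = ⟨_, h2⟩ * ⟨v, hv⟩ := mul_comm _ _
          exact congrArg Subtype.val h1
        rw [← h3, mem_centralizer_singleton_iff]
        rw [← hCz, mem_centralizer_singleton_iff] at hb
        have e1 : w * b * w⁻¹ * (w * z * w⁻¹) = w * (b * z) * w⁻¹ := by group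
        have e2 : w * z * w⁻¹ * (w * b * w⁻¹) = w * (z * b) * w⁻¹ := by group
        rw [e1, e2, hb]
      have hsub : ∀ w ∈ normalizer (zpowers z : Set G), ∀ b ∈ (P : Subgroup G), w * b * w⁻¹ ∈ (P : Subgroup G) := by
        intro w hw b hb
        obtain ⟨⟨c, hc⟩, hgen⟩ := hPc.exists_generator
        have hgen' : ∀ a ∈ (P : Subgroup G), a ∈ zpowers c := by
          intro a ha
          obtain ⟨j, hj⟩ := hgen ⟨a, ha⟩
          exact ⟨j, congrArg Subtype.val hj⟩
        obtain ⟨j, rfl⟩ := hgen' b hb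
        show w * c ^ j * w⁻¹ ∈ _
        rw [← conj_zpow]
        apply zpow_mem
        have h1 := mem_zpowers_of_cyclic hTc (hPT hc) (hTn w hw c (hPT hc)) (by
          rw [show orderOf (w * c * w⁻¹) = orderOf c from by
            rw [← MulAut.conj_apply]; exact (MulAut.conj w).orderOf_eq _])
        obtain ⟨i, hi⟩ := h1
        rw [← hi]
        exact zpow_mem hc i
      intro w hw
      rw [mem_normalizer_iff]
      intro b
      refine ⟨hsub w hw b, fun hb => ?_⟩
      have := hsub w⁻¹ (inv_mem hw) _ hb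
      have e1 : w⁻¹ * (w * b * w⁻¹) * w⁻¹⁻¹ = b := by group
      rwa [e1] at this
  have hcG : Nat.card G = Nat.card T * (a * Nat.card (Sylow r G)) := by
    have h1 := Subgroup.card_mul_index (normalizer ((P : Subgroup G) : Set G))
    have h0 : Nat.card (Sylow r G) = (normalizer ((P : Subgroup G) : Set G)).index := P.card_eq_index_normalizer
    rw [← h0, hNP, ha1, hCz] at h1
    rw [← h1]; ring
  have hae : a ∣ e := by
    refine hnum (Nat.card T) (a * Nat.card (Sylow r G)) a hTm hmT hcG ha2 ?_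
    have h1 : a * Nat.card (Sylow r G) ≡ a * 1 [MOD r] := (card_sylow_modEq_one r G).mul_left a
    rwa [mul_one] at h1
  -- conclusion
  refine ⟨hr, fun x hx => ?_, fun x hx => ?_, fun x y hx hy => ?_, hre⟩
  · obtain ⟨f, hf⟩ := hmap x hx
    exact isCyclic_of_injective f hf.1
  · obtain ⟨f, hf⟩ := hmap x hx
    exact (Subgroup.card_dvd_of_injective f hf.1).trans hTm
  · -- compare the automizers of `x` and `z`
    obtain ⟨a₁, hb1, hb2, hb0, hb3⟩ := exists_automizer hr hx
    have hcx : Nat.card ↥(centralizer {x}) = Nat.card T := by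
      obtain ⟨f, hf⟩ := hmap x hx
      exact Nat.card_eq_of_bijective f hf
    obtain ⟨g, hg⟩ := hconj x hx
    have ho : orderOf (g * x * g⁻¹) = r := by
      rw [← hx, ← MulAut.conj_apply]; exact (MulAut.conj g).orderOf_eq x
    have h1 : zpowers (g * x * g⁻¹) = zpowers z := by
      apply Subgroup.eq_of_le_of_card_ge
      · rw [zpowers_le]
        exact mem_zpowers_of_cyclic hTc hzT hg (by rw [ho, hz])
      · rw [Nat.card_zpowers, Nat.card_zpowers, ho, hz]
    have h2 : Nat.card ↥(normalizer (zpowers x : Set G)) = Nat.card ↥(normalizer (zpowers z : Set G)) := by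
      rw [← h1]
      have h3 : (normalizer (zpowers x : Set G)).map (MulAut.conj g).toMonoidHom =
          normalizer (zpowers (g * x * g⁻¹) : Set G) := by
        have h4 := Subgroup.map_equiv_normalizer_eq (zpowers x) (MulAut.conj g)
        rw [show (zpowers x).map (MulAut.conj g).toMonoidHom = zpowers (g * x * g⁻¹) from by
          rw [MonoidHom.map_zpowers]; rfl] at h4
        exact h4
      rw [← h3]
      exact Nat.card_congr ((normalizer (zpowers x : Set G)).equivMapOfInjective _ (MulAut.conj g).injective).toEquiv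
    rw [hb1, ha1, hcx, hCz] at h2
    have h3 : a₁ = a := Nat.eq_of_mul_eq_mul_right Nat.card_pos h2
    obtain ⟨k, hk⟩ := hae
    rw [hk, ← h3, pow_mul]
    exact (hb3 y hy).pow_left k

end Cfsg.Agent.H56.Exc
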