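import Mathlib

/-!
# Big primes (helper56)

`Big G r m e` : the centralisers of the elements of order `r` are cyclic of order dividing `m`, and every element
normalising a subgroup of order `r` has its `e`-th power in the centraliser; `r ∤ e`.

* `Big.subgroup`, `Big.quotient` : inheritance (by normal subgroups of order prime to `r`);
* `Big.isCyclic_sylow` : cyclic Sylow `r`-subgroups;
* `lift_conj` : lifting conjugation modulo a normal subgroup of order prime to `r`;
* `Big.card_normalizer_dvd` : the order of the normaliser of a subgroup of order `r`.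
-/

set_option autoImplicit false

namespace Cfsg.Agent.H56.Exc

open Subgroup

/-- `r` is a big prime of `G` -/
structure Big (G : Type*) [Group G] (r m e : ℕ) : Prop where
  prime : r.Prime
  cyc : ∀ x : G, orderOf x = r → IsCyclic ↥(centralizer {x})
  card : ∀ x : G, orderOf x = r → Nat.card ↥(centralizer {x}) ∣ m
  aut : ∀ x y : G, orderOf x = r → y * x * y⁻¹ ∈ zpowers x → Commute (y ^ e) x
  ndvd : ¬ r ∣ e

variable {G : Type*} [Group G] {r m e : ℕ}

theorem Big.of_injective {H : Type*} [Group H] (h : Big G r m e) (f : H →* G) (hf : Function.Injective f)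
    [Finite G] : Big H r m e := by
  have hcent : ∀ x : H, ∀ y, y ∈ centralizer {x} ↔ f y ∈ centralizer {f x} := by
    intro x y
    rw [mem_centralizer_singleton_iff, mem_centralizer_singleton_iff, ← map_mul, ← map_mul, hf.eq_iff]
  refine ⟨h.prime, fun x hx => ?_, fun x hx => ?_, fun x y hx hy => ?_, h.ndvd⟩
  · have := h.cyc (f x) (by rw [orderOf_injective f hf, hx])
    let g : ↥(centralizer {x}) →* ↥(centralizer {f x}) :=
      (f.comp (centralizer {x}).subtype).codRestrict _ fun y => (hcent x y).1 y.2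
    exact isCyclic_of_injective g fun a b hab => Subtype.ext (hf (congrArg Subtype.val hab))
  · have h1 := h.card (f x) (by rw [orderOf_injective f hf, hx])
    refine dvd_trans ?_ h1
    let g : ↥(centralizer {x}) →* ↥(centralizer {f x}) :=
      (f.comp (centralizer {x}).subtype).codRestrict _ fun y => (hcent x y).1 y.2
    exact Subgroup.card_dvd_of_injective g fun a b hab => Subtype.ext (hf (congrArg Subtype.val hab))
  · have h1 : f y * f x * (f y)⁻¹ ∈ zpowers (f x) := by
      obtain ⟨k, hk⟩ := hy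
      exact ⟨k, by simpa using congrArg f hk⟩
    have h2 := h.aut (f x) (f y) (by rw [orderOf_injective f hf, hx]) h1
    apply hf
    simpa using h2.eq

theorem Big.subgroup [Finite G] (h : Big G r m e) (H : Subgroup G) : Big H r m e :=
  h.of_injective H.subtype H.subtype_injective

theorem Big.congr [Finite G] {H : Type*} [Group H] (h : Big G r m e) (f : G ≃* H) : Big H r m e :=
  h.of_injective f.symm.toMonoidHom f.symm.injective

/-- a cyclic group has at most one subgroup of each order -/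
theorem mem_zpowers_of_cyclic {C : Subgroup G} [Finite G] (hC : IsCyclic ↥C) {x y : G} (hx : x ∈ C) (hy : y ∈ C)
    (h : orderOf y ∣ orderOf x) : y ∈ zpowers x := by
  have h1 : (⟨y, hy⟩ : ↥C) ∈ zpowers (⟨x, hx⟩ : ↥C) := by
    have h2 : zpowers (⟨y, hy⟩ : ↥C) ≤ zpowers (⟨x, hx⟩ : ↥C) := by
      classical
      have : Fintype ↥C := Fintype.ofFinite _
      have hn : 0 < orderOf (⟨x, hx⟩ : ↥C) := orderOf_pos _
      have h3 := IsCyclic.card_pow_eq_one_le (α := ↥C) hn
      have h4 : (Finset.univ.filter fun a : ↥C => a ^ orderOf (⟨x, hx⟩ : ↥C) = 1) =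
          (zpowers (⟨x, hx⟩ : ↥C) : Set ↥C).toFinset := by
        symm
        apply Finset.eq_of_subset_of_card_le
        · intro a ha
          rw [Set.mem_toFinset, SetLike.mem_coe] at ha
          rw [Finset.mem_filter]
          obtain ⟨k, rfl⟩ := ha
          refine ⟨Finset.mem_univ _, ?_⟩
          show ((⟨x, hx⟩ : ↥C) ^ k) ^ _ = 1
          rw [← zpow_natCast, ← zpow_mul, mul_comm, zpow_mul, zpow_natCast, pow_orderOf_eq_one, one_zpow]
        · refine h3.trans ?_
          rw [Set.toFinset_card, ← Nat.card_eq_fintype_card]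
          exact (Nat.card_zpowers _).ge
      intro a ha
      have h5 : a ∈ (zpowers (⟨x, hx⟩ : ↥C) : Set ↥C).toFinset := by
        rw [← h4, Finset.mem_filter]
        refine ⟨Finset.mem_univ _, ?_⟩
        obtain ⟨k, rfl⟩ := ha
        obtain ⟨c, hc⟩ := h
        rw [Subgroup.orderOf_mk, hc]
        show ((⟨y, hy⟩ : ↥C) ^ k) ^ (orderOf y * c) = 1
        have h6 : (⟨y, hy⟩ : ↥C) ^ orderOf y = 1 := by
          rw [← Subgroup.orderOf_mk y hy, pow_orderOf_eq_one]
        rw [← zpow_natCast, ← zpow_mul, mul_comm, zpow_mul, zpow_natCast, pow_mul, h6, one_pow, one_zpow]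
      rwa [Set.mem_toFinset] at h5
    exact h2 (mem_zpowers _)
  obtain ⟨k, hk⟩ := h1
  exact ⟨k, congrArg Subtype.val hk⟩

theorem exists_central_orderOf {P : Subgroup G} [Finite G] [Fact r.Prime] (hP : IsPGroup r P) (hP1 : P ≠ ⊥) :
    ∃ x ∈ P, orderOf x = r ∧ P ≤ centralizer {x} := by
  have : Nontrivial P := (Subgroup.nontrivial_iff_ne_bot P).2 hP1
  have hc : Nontrivial (center ↥P) := hP.center_nontrivial
  have h1 : r ∣ Nat.card (center ↥P) := by
    rcases (hP.to_subgroup (center ↥P)).card_eq_or_dvd with h | h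
    · exact absurd h (Finite.one_lt_card_iff_nontrivial.2 hc).ne'
    · exact h
  obtain ⟨z, hz⟩ := exists_prime_orderOf_dvd_card' r h1
  refine ⟨((z : ↥P) : G), (z : ↥P).2, ?_, fun y hy => ?_⟩
  · rw [Subgroup.orderOf_coe, Subgroup.orderOf_coe, hz]
  · rw [mem_centralizer_singleton_iff]
    have h2 := mem_center_iff.1 z.2 ⟨y, hy⟩
    exact congrArg Subtype.val h2

theorem Big.isCyclic_of_isPGroup [Finite G] (h : Big G r m e) {P : Subgroup G} (hP : IsPGroup r P) : IsCyclic ↥P := by
  have : Fact r.Prime := ⟨h.prime⟩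
  by_cases hP1 : P = ⊥
  · subst hP1; infer_instance
  obtain ⟨x, -, hx, hPx⟩ := exists_central_orderOf hP hP1
  have := h.cyc x hx
  exact isCyclic_of_injective (Subgroup.inclusion hPx) (Subgroup.inclusion_injective hPx)

theorem Big.isCyclic_sylow [Finite G] (h : Big G r m e) (P : Sylow r G) : IsCyclic ↥(P : Subgroup G) :=
  h.isCyclic_of_isPGroup P.2

/-- two elements of order dividing `r` in the same coset of a normal subgroup of order prime to `r` are conjugate -/
theorem exists_conj_of_coset [Finite G] (hr : r.Prime) (K : Subgroup G) [K.Normal] (hK : ¬ r ∣ Nat.card K) {z x : G}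
    (hz : z ^ r = 1) (hx : x ^ r = 1) (h : x * z⁻¹ ∈ K) : ∃ c ∈ K, c * z * c⁻¹ = x := by
  classical
  have : Fact r.Prime := ⟨hr⟩
  have : Fintype ↥K := Fintype.ofFinite _
  have h1 : ∀ c ∈ K, x * c * z⁻¹ ∈ K := by
    intro c hc
    have e : x * c * z⁻¹ = (x * c * x⁻¹) * (x * z⁻¹) := by group
    rw [e]
    exact mul_mem (Normal.conj_mem inferInstance c hc x) h
  have h2 : ∀ c ∈ K, x⁻¹ * c * z ∈ K := by
    intro c hc
    have e : x⁻¹ * c * z = (x⁻¹ * c * x⁻¹⁻¹) * (z⁻¹ * (x * z⁻¹)⁻¹ * z⁻¹⁻¹) := by group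
    rw [e]
    exact mul_mem (Normal.conj_mem inferInstance c hc x⁻¹)
      (Normal.conj_mem inferInstance _ (inv_mem h) z⁻¹)
  let σ : Equiv.Perm ↥K :=
    { toFun := fun c => ⟨x * c * z⁻¹, h1 c c.2⟩
      invFun := fun c => ⟨x⁻¹ * c * z, h2 c c.2⟩
      left_inv := fun c => Subtype.ext (by simp only; group)
      right_inv := fun c => Subtype.ext (by simp only; group) }
  have hσ : ∀ (n : ℕ) (c : ↥K), (((σ ^ n) c : ↥K) : G) = x ^ n * c * (z ^ n)⁻¹ := by
    intro n
    induction n with
    | zero => intro c; simp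
    | succ n ih =>
      intro c
      rw [pow_succ', Equiv.Perm.mul_apply]
      show x * (((σ ^ n) c : ↥K) : G) * z⁻¹ = _
      rw [ih, pow_succ' x, pow_succ z]
      group
  have hσ1 : σ ^ r ^ 1 = 1 := by
    ext c
    rw [pow_one, hσ, hx, hz, Equiv.Perm.one_apply]
    group
  obtain ⟨c, hc⟩ := Equiv.Perm.exists_fixed_point_of_prime (p := r) (n := 1)
    (by rwa [← Nat.card_eq_fintype_card]) hσ1
  refine ⟨c, c.2, ?_⟩
  have h3 : x * (c : G) * z⁻¹ = c := congrArg Subtype.val hc
  rw [mul_inv_eq_iff_eq_mul] at h3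
  rw [mul_inv_eq_iff_eq_mul, h3]

/-- lifting conjugation modulo a normal subgroup of order prime to `r` -/
theorem lift_conj [Finite G] (hr : r.Prime) (K : Subgroup G) [K.Normal] (hK : ¬ r ∣ Nat.card K) {x y : G}
    (hx : orderOf x = r) {k : ℤ} (h : x ^ k * (y * x * y⁻¹)⁻¹ ∈ K) :
    ∃ c ∈ K, (c * y) * x * (c * y)⁻¹ = x ^ k := by
  have hxr : x ^ r = 1 := by rw [← hx, pow_orderOf_eq_one]
  obtain ⟨c, hc, h1⟩ := exists_conj_of_coset hr K hK (z := y * x * y⁻¹) (x := x ^ k)
    (by rw [conj_pow, hxr]; group)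
    (by rw [← zpow_natCast, ← zpow_mul, mul_comm, zpow_mul, zpow_natCast, hxr, one_zpow]) h
  refine ⟨c, hc, ?_⟩
  rw [← h1]
  group

theorem exists_lift [Finite G] (hr : r.Prime) (K : Subgroup G) [K.Normal] (hK : ¬ r ∣ Nat.card K) {x : G ⧸ K}
    (hx : orderOf x = r) : ∃ y : G, orderOf y = r ∧ (QuotientGroup.mk' K y) = x := by
  obtain ⟨z, rfl⟩ := QuotientGroup.mk'_surjective K x
  set n := orderOf z with hn
  have hrn : r ∣ n := by rw [← hx]; exact orderOf_map_dvd _ _
  obtain ⟨k, hk⟩ := hrn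
  -- `z ^ r ∈ K`
  have hzr : z ^ r ∈ K := by
    rw [← QuotientGroup.ker_mk' K, MonoidHom.mem_ker, map_pow, ← hx, pow_orderOf_eq_one]
  have hn0 : 0 < n := orderOf_pos z
  have hk0 : k ≠ 0 := by rintro rfl; rw [mul_zero] at hk; omega
  have hr0 : r ≠ 0 := hr.ne_zero
  -- `k` is prime to `r`
  have hkK : k ∣ Nat.card K := by
    have h1 : orderOf (z ^ r) = k := by
      rw [orderOf_pow_of_dvd hr0 (by rw [← hn, hk]; exact dvd_mul_right _ _), ← hn, hk,
        Nat.mul_div_cancel_left _ hr.pos]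
    rw [← h1]
    have := orderOf_dvd_natCard (⟨z ^ r, hzr⟩ : ↥K)
    rwa [Subgroup.orderOf_mk] at this
  have hrk : ¬ r ∣ k := fun h => hK (h.trans hkK)
  have hcop : Nat.Coprime k r := ((Nat.Prime.coprime_iff_not_dvd hr).2 hrk).symm
  -- choose `a` with `a * k = 1 mod r`
  obtain ⟨a, -, ha⟩ := Nat.exists_mul_mod_eq_one_of_coprime hcop hr.one_lt
  refine ⟨(z ^ k) ^ a, ?_, ?_⟩
  · have h1 : orderOf (z ^ k) = r := by
      rw [orderOf_pow_of_dvd hk0 (by rw [← hn, hk]; exact dvd_mul_left _ _), ← hn, hk,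
        Nat.mul_div_cancel _ (Nat.pos_of_ne_zero hk0)]
    rw [Nat.Coprime.orderOf_pow (by
      rw [h1]
      rw [Nat.Prime.coprime_iff_not_dvd hr]
      intro h2
      have h3 : r ∣ k * a := h2.mul_left k
      have h4 := (Nat.dvd_iff_mod_eq_zero).1 h3
      omega), h1]
  · rw [map_pow, map_pow, ← pow_mul]
    set w := QuotientGroup.mk' K z
    have h1 : w ^ (k * a) = w ^ (k * a % orderOf w) := (pow_mod_orderOf w (k * a)).symm
    rw [h1, hx, ha, pow_one]

theorem Big.quotient [Finite G] (h : Big G r m e) (K : Subgroup G) [K.Normal] (hK : ¬ r ∣ Nat.card K) :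
    Big (G ⧸ K) r m e := by
  have hmem : ∀ {a : G}, QuotientGroup.mk' K a = 1 ↔ a ∈ K := fun {a} => by
    rw [← MonoidHom.mem_ker, QuotientGroup.ker_mk']
  -- surjectivity on centralisers
  have key : ∀ (x : G), orderOf x = r → ∀ v : G ⧸ K, ∀ k : ℤ, v * QuotientGroup.mk' K x * v⁻¹ =
      QuotientGroup.mk' K x ^ k → ∃ y : G, y * x * y⁻¹ = x ^ k ∧ QuotientGroup.mk' K y = v := by
    intro x hx v k hk
    obtain ⟨y, rfl⟩ := QuotientGroup.mk'_surjective K v
    obtain ⟨c, hc, h1⟩ := lift_conj h.prime K hK (x := x) (y := y) (k := k) hx (by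
      rw [← hmem]
      simp only [map_mul, map_zpow, map_inv]
      rw [hk, mul_inv_cancel])
    refine ⟨c * y, h1, ?_⟩
    rw [map_mul, hmem.2 hc, one_mul]
  have hf : ∀ x : G, orderOf x = r → ∃ f : ↥(centralizer {x}) →* ↥(centralizer {QuotientGroup.mk' K x}),
      Function.Surjective f := by
    intro x hx
    refine ⟨((QuotientGroup.mk' K).comp (centralizer {x}).subtype).codRestrict _ fun y => ?_, fun y => ?_⟩
    · have := y.2
      rw [mem_centralizer_singleton_iff] at this ⊢
      simpa using congrArg (QuotientGroup.mk' K) this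
    · have h1 := y.2
      rw [mem_centralizer_singleton_iff] at h1
      obtain ⟨z, hz1, hz2⟩ := key x hx y 1 (by rw [zpow_one, h1, mul_inv_cancel_right])
      refine ⟨⟨z, ?_⟩, Subtype.ext hz2⟩
      rw [mem_centralizer_singleton_iff]
      rw [zpow_one, mul_inv_eq_iff_eq_mul] at hz1
      exact hz1
  refine ⟨h.prime, fun x hx => ?_, fun x hx => ?_, fun x y hx hy => ?_, h.ndvd⟩
  · obtain ⟨x, hx', rfl⟩ := exists_lift h.prime K hK hx
    obtain ⟨f, hf⟩ := hf x hx'
    have := h.cyc x hx'
    exact isCyclic_of_surjective f hf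
  · obtain ⟨x, hx', rfl⟩ := exists_lift h.prime K hK hx
    obtain ⟨f, hf⟩ := hf x hx'
    exact (Subgroup.card_dvd_of_surjective f hf).trans (h.card x hx')
  · obtain ⟨x, hx', rfl⟩ := exists_lift h.prime K hK hx
    obtain ⟨k, hk⟩ := hy
    obtain ⟨z, hz1, rfl⟩ := key x hx' y k hk.symm
    have h2 := h.aut x z hx' ⟨k, hz1.symm⟩
    simpa using h2.map (QuotientGroup.mk' K)

/-- the automizer of a subgroup of big prime order -/
theorem Big.card_normalizer_dvd {r m e : ℕ} (h : Big G r m e) {x : G} (hx : orderOf x = r) :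
    Nat.card ↥(normalizer (zpowers x : Set G)) ∣ e * m := by
  have hr := h.prime
  have : Fact r.Prime := ⟨hr⟩
  set N : Subgroup G := normalizer (zpowers x : Set G) with hN
  have hmem : ∀ y ∈ N, y * x * y⁻¹ ∈ zpowers x := fun y hy => by
    have := (mem_normalizer_iff.1 hy x).1 (mem_zpowers x)
    exact this
  let φ : N →* MulAut ↥(zpowers x) := (zpowers x).normalizerMonoidHom
  have hcard : Nat.card ↥(zpowers x) = r := by rw [Nat.card_zpowers, hx]
  have hφ1 : ∀ y : N, φ y = 1 ↔ (y : G) ∈ centralizer {x} := by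
    intro y
    constructor
    · intro h1
      have h2 : (φ y) ⟨x, mem_zpowers x⟩ = ⟨x, mem_zpowers x⟩ := by rw [h1]; rfl
      have h3 : (y : G) * x * (y : G)⁻¹ = x := congrArg Subtype.val h2
      rw [mem_centralizer_singleton_iff]
      rwa [mul_inv_eq_iff_eq_mul] at h3
    · intro h1
      rw [mem_centralizer_singleton_iff] at h1
      ext ⟨a, ha⟩
      obtain ⟨k, rfl⟩ := ha
      show (y : G) * (x ^ k) * (y : G)⁻¹ = x ^ k
      have h2 : Commute (y : G) x := h1
      rw [(h2.zpow_right k).eq, mul_inv_cancel_right]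
  -- kernel
  have hker : Nat.card ↥φ.ker ∣ m := by
    refine dvd_trans ?_ (h.card x hx)
    let g : ↥φ.ker →* ↥(centralizer {x}) :=
      ((N.subtype).comp φ.ker.subtype).codRestrict _ fun y => (hφ1 y).1 (MonoidHom.mem_ker.1 y.2)
    exact Subgroup.card_dvd_of_injective g fun a b hab => by
      have h2 : ((a : N) : G) = ((b : N) : G) := congrArg (fun z : ↥(centralizer {x}) => (z : G)) hab
      exact Subtype.ext (Subtype.ext h2)
  -- range
  have hcycA : IsCyclic (MulAut ↥(zpowers x)) := by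
    have h1 := IsCyclic.mulAutMulEquiv ↥(zpowers x)
    rw [hcard] at h1
    have := ZMod.isCyclic_units_prime hr
    exact isCyclic_of_injective h1.toMonoidHom h1.injective
  have hrange : Nat.card ↥φ.range ∣ e := by
    have : IsCyclic ↥φ.range := inferInstance
    obtain ⟨⟨g, hg⟩, hgen⟩ := this.exists_generator
    obtain ⟨y, rfl⟩ := hg
    have h1 : orderOf (⟨φ y, ⟨y, rfl⟩⟩ : ↥φ.range) = Nat.card ↥φ.range := orderOf_eq_card_of_forall_mem_zpowers hgen
    rw [← h1]
    apply orderOf_dvd_of_pow_eq_one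
    apply Subtype.ext
    show φ y ^ e = 1
    rw [← map_pow, hφ1]
    rw [mem_centralizer_singleton_iff]
    exact (h.aut x y hx (hmem y y.2)).eq
  have h2 : Nat.card N = Nat.card ↥φ.range * Nat.card ↥φ.ker := by
    rw [Subgroup.card_eq_card_quotient_mul_card_subgroup φ.ker,
      Nat.card_congr (QuotientGroup.quotientKerEquivRange φ).toEquiv]
  rw [h2]
  exact mul_dvd_mul hrange hker

end Cfsg.Agent.H56.Exc
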