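import Cfsg.Agent.H56.Exc.Sec

/-!
# The simple normal subgroup of a reduced group with several big primes (helper56)
-/

set_option autoImplicit false
set_option linter.unusedSectionVars false

namespace Cfsg.Agent.H56.Exc

open Subgroup

variable {G : Type*} [Group G] [Finite G] {B : ℕ → ℕ → ℕ → Prop}

theorem exists_minimal (G : Type*) [Group G] [Finite G] (A : Subgroup G) (hA : A.Normal) (h1 : A ≠ ⊥) :
    ∃ M : Subgroup G, M.Normal ∧ M ≠ ⊥ ∧ M ≤ A ∧ ∀ L : Subgroup G, L.Normal → L ≤ M → L = ⊥ ∨ L = M := by
  classical
  let S : Set (Subgroup G) := {M | M.Normal ∧ M ≠ ⊥ ∧ M ≤ A}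
  have hfin : S.Finite := Set.toFinite _
  have hne : S.Nonempty := ⟨A, hA, h1, le_rfl⟩
  obtain ⟨M, hM, hmin⟩ := hfin.exists_minimal hne
  refine ⟨M, hM.1, hM.2.1, hM.2.2, fun L hL hLM => ?_⟩
  by_cases hL1 : L = ⊥
  · exact Or.inl hL1
  · exact Or.inr (le_antisymm hLM (hmin ⟨hL, hL1, hLM.trans hM.2.2⟩ hLM))

theorem isSolvable_of_cyclic {C : Subgroup G} (h : IsCyclic ↥C) : Group.IsSolvable ↥C := by
  let _ : CommGroup ↥C := IsCyclic.commGroup
  exact Group.isSolvable_of_comm fun a b => mul_comm a b

/-- **The simple normal subgroup.** -/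
theorem RFam.exists_simple (h : RFam G B) (hred : Red G (Pr B)) {r₁ m₁ e₁ : ℕ} (hr₁ : B r₁ m₁ e₁) :
    ∃ S : Subgroup G, S.Normal ∧ IsSimpleGroup S ∧ ¬ IsMulCommutative S ∧ centralizer (S : Set G) = ⊥ := by
  have hG1 : (⊤ : Subgroup G) ≠ ⊥ := by
    intro h1
    have h2 := h.dvd r₁ m₁ e₁ hr₁
    rw [← Subgroup.card_top, h1, Subgroup.card_bot] at h2
    exact (h.big r₁ m₁ e₁ hr₁).prime.one_lt.ne' (Nat.dvd_one.1 h2)
  obtain ⟨N, hN, hN1, -, hmin⟩ := exists_minimal G ⊤ inferInstance hG1
  obtain ⟨r, ⟨m, e, hr⟩, hrN⟩ := hred.exists_dvd hN hN1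
  have hb := h.big r m e hr
  have hbN := hb.subgroup N
  have : Fact r.Prime := ⟨hb.prime⟩
  have hns : ¬ Group.IsSolvable N := fun hs => hN1 (h.eq_bot_of_solvable hred hN hs)
  -- nontrivial normal subgroups of `N` have order divisible by `r`
  have key : ∀ A : Subgroup N, A.Normal → A ≠ ⊥ → r ∣ Nat.card A := by
    intro A hA hA1
    by_contra hrA
    obtain ⟨O, hO, hO1, hO2⟩ := exists_core N (fun s => s = r) (by rintro s rfl; exact hb.prime)
    have hAO : A ≤ O := hO2 A hA (by rintro s rfl; exact hrA)
    have hOn : (O.map N.subtype).Normal := by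
      constructor
      rintro _ ⟨a, ha, rfl⟩ g
      have h1 : O.map (MulAut.conjNormal (H := N) g).toMonoidHom ≤ O := by
        apply hO2
        · exact hO.map _ (MulAut.conjNormal (H := N) g).surjective
        · rintro s rfl
          have hc : Nat.card ↥(O.map (MulAut.conjNormal (H := N) g).toMonoidHom) = Nat.card O :=
            Nat.card_congr (O.equivMapOfInjective (MulAut.conjNormal (H := N) g).toMonoidHom
              (MulAut.conjNormal (H := N) g).injective).symm.toEquiv
          rw [hc]
          exact hO1 s rfl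
      refine ⟨MulAut.conjNormal g a, h1 ⟨a, ha, rfl⟩, ?_⟩
      exact MulAut.conjNormal_apply g a
    rcases hmin _ hOn (by rintro _ ⟨a, -, rfl⟩; exact a.2) with h2 | h2
    · apply hA1
      rw [Subgroup.map_eq_bot_iff_of_injective _ N.subtype_injective] at h2
      rw [eq_bot_iff, ← h2]; exact hAO
    · apply hO1 r rfl
      have h3 : Nat.card (O.map N.subtype) = Nat.card O :=
        Nat.card_congr (O.equivMapOfInjective _ N.subtype_injective).symm.toEquiv
      rw [← h3, h2]; exact hrN
  -- no normal subgroup of order `r` in `N`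
  have key2 : ∀ x : N, orderOf x = r → ¬ (zpowers x).Normal := by
    intro x hx hxn
    have h1 : (zpowers (x : G)).Normal := by
      constructor
      rintro _ ⟨k, rfl⟩ g
      have h2 : (MulAut.conjNormal g x : N) ∈ zpowers x := by
        set y : N := MulAut.conjNormal g x
        have hy : orderOf y = r := by rw [← hx]; exact (MulAut.conjNormal (H := N) g).orderOf_eq x
        have hp1 : IsPGroup r (zpowers x) := by
          rw [IsPGroup.iff_card]; exact ⟨1, by rw [Nat.card_zpowers, hx, pow_one]⟩
        have hp2 : IsPGroup r (zpowers y) := by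
          rw [IsPGroup.iff_card]; exact ⟨1, by rw [Nat.card_zpowers, hy, pow_one]⟩
        have hp3 : IsPGroup r (zpowers x ⊔ zpowers y : Subgroup N) := IsPGroup.to_sup_of_normal_left hp1 hp2
        exact mem_zpowers_of_cyclic (hbN.isCyclic_of_isPGroup hp3) (le_sup_left (a := zpowers x) (mem_zpowers x))
          (le_sup_right (a := zpowers x) (mem_zpowers y)) (by rw [hx, hy])
      obtain ⟨j, hj⟩ := h2
      have h3 : (x : G) ^ j = g * x * g⁻¹ := by
        have := congrArg Subtype.val hj
        rwa [MulAut.conjNormal_apply] at this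
      refine ⟨j * k, ?_⟩
      show (x : G) ^ (j * k) = g * (x : G) ^ k * g⁻¹
      rw [zpow_mul, h3, conj_zpow]
    exact h.sep r m e hr (hb.card_dvd_of_normal (by rw [Subgroup.orderOf_coe, hx]) h1)
  have hsimple : IsSimpleGroup N := by
    refine { exists_pair_ne := ?_, eq_bot_or_eq_top_of_normal := ?_ }
    · exact ((Subgroup.nontrivial_iff_ne_bot N).2 hN1).exists_pair_ne
    · intro A hA
      by_contra hcon
      rw [not_or] at hcon
      obtain ⟨D, hD, hD1, hDA, hDmin⟩ := exists_minimal N A hA hcon.1
      obtain ⟨x, hx⟩ := exists_prime_orderOf_dvd_card' r (key D hD hD1)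
      by_cases hall : ∀ g : G, D.map (MulAut.conjNormal (H := N) g).toMonoidHom = D
      · have hDn : (D.map N.subtype).Normal := by
          constructor
          rintro _ ⟨a, ha, rfl⟩ g
          refine ⟨MulAut.conjNormal g a, (hall g).le ⟨a, ha, rfl⟩, ?_⟩
          exact MulAut.conjNormal_apply g a
        rcases hmin _ hDn (by rintro _ ⟨a, -, rfl⟩; exact a.2) with h2 | h2
        · apply hD1
          rwa [Subgroup.map_eq_bot_iff_of_injective _ N.subtype_injective] at h2
        · apply hcon.2
          rw [eq_top_iff]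
          intro a _
          apply hDA
          have h3 : (a : G) ∈ D.map N.subtype := by rw [h2]; exact a.2
          obtain ⟨b, hb, hba⟩ := h3
          have : b = a := Subtype.ext hba
          rwa [← this]
      · push Not at hall
        obtain ⟨g, hg⟩ := hall
        set φ := (MulAut.conjNormal (H := N) g).toMonoidHom with hφ
        have hφi : Function.Injective φ := (MulAut.conjNormal (H := N) g).injective
        have hD' : (D.map φ).Normal := hD.map _ (MulAut.conjNormal (H := N) g).surjective
        have hcard : Nat.card (D.map φ) = Nat.card D :=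
          Nat.card_congr (D.equivMapOfInjective _ hφi).symm.toEquiv
        have hdis : D ⊓ D.map φ = ⊥ := by
          rcases hDmin (D ⊓ D.map φ) inferInstance inf_le_left with h3 | h3
          · exact h3
          · exfalso
            have h4 : D ≤ D.map φ := by
              conv_lhs => rw [← h3]
              exact inf_le_right
            exact hg (Subgroup.eq_of_le_of_card_ge h4 hcard.le).symm
        have hcomm : ∀ a ∈ D, ∀ b ∈ D.map φ, Commute a b := fun a ha b hb' =>
          Subgroup.commute_of_normal_of_disjoint _ _ hD hD' (disjoint_iff.2 hdis) a b ha hb'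
        have hle : D.map φ ≤ centralizer {(x : N)} := by
          intro b hb'
          rw [mem_centralizer_singleton_iff]
          exact (hcomm x x.2 b hb').symm.eq
        have hcyc : IsCyclic ↥(D.map φ) := by
          have := hbN.cyc (x : N) (by rw [Subgroup.orderOf_coe, hx])
          exact isCyclic_of_injective (Subgroup.inclusion hle) (Subgroup.inclusion_injective hle)
        have hcycD : IsCyclic ↥D :=
          isCyclic_of_injective (D.equivMapOfInjective _ hφi).toMonoidHom (D.equivMapOfInjective _ hφi).injective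
        have hxn : (zpowers (x : N)).Normal := by
          constructor
          rintro _ ⟨k, rfl⟩ a
          have h5 : a * (x : N) * a⁻¹ ∈ zpowers (x : N) := by
            apply mem_zpowers_of_cyclic hcycD x.2 (hD.conj_mem _ x.2 a)
            rw [show orderOf (a * (x : N) * a⁻¹) = orderOf (x : N) from by
              rw [← MulAut.conj_apply]; exact (MulAut.conj a).orderOf_eq _]
          show a * (x : N) ^ k * a⁻¹ ∈ zpowers (x : N)
          rw [← conj_zpow]
          exact zpow_mem h5 k
        exact key2 x (by rw [Subgroup.orderOf_coe, hx]) hxn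
  refine ⟨N, hN, hsimple, fun hc => ?_, ?_⟩
  · apply hns
    rw [isMulCommutative_iff] at hc
    exact Group.isSolvable_of_comm hc
  · obtain ⟨x, hx⟩ := exists_prime_orderOf_dvd_card' r hrN
    apply h.eq_bot_of_solvable hred inferInstance
    have hle : centralizer (N : Set G) ≤ centralizer {(x : G)} := by
      apply centralizer_le
      intro y hy
      rw [Set.mem_singleton_iff] at hy
      rw [hy]; exact x.2
    apply isSolvable_of_cyclic
    have := hb.cyc (x : G) (by rw [Subgroup.orderOf_coe, hx])
    exact isCyclic_of_injective (Subgroup.inclusion hle) (Subgroup.inclusion_injective hle)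

end Cfsg.Agent.H56.Exc
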